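import Groth.Agent.BrauerXPoint.GaloisLift
import Groth.Agent.EtFound.Basic
import Groth.Agent.GalEt.Cyclic
import Mathlib.AlgebraicGeometry.PullbackCarrier

/-!
# The sheaf of integer functions on the points
-/

universe u

open CategoryTheory CategoryTheory.Limits AlgebraicGeometry Opposite

namespace Groth.Agent.BrauerXFact

open Groth.Agent.EtFound Groth.Agent.GalEt

set_option backward.isDefEq.respectTransparency.types false

/-- integer functions on the points -/
noncomputable def ptFunPre (S : Scheme.{u}) : S.Etaleᵒᵖ ⥤ AddCommGrpCat.{u + 1} where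
  obj T := AddCommGrpCat.of (T.unop.left → ULift.{u + 1} ℤ)
  map f := AddCommGrpCat.ofHom
    { toFun := fun s p => s (f.unop.left p)
      map_zero' := rfl
      map_add' := fun _ _ => rfl }
  map_id T := rfl
  map_comp f g := rfl

theorem isSheaf_ptFunPre (S : Scheme.{u}) : Presheaf.IsSheaf S.smallEtaleTopology (ptFunPre S) := by
  refine (Presheaf.isSheaf_iff_isSheaf_forget _ _ (forget AddCommGrpCat.{u + 1})).2
    ((isSheaf_iff_isSheaf_of_type _ _).2 fun V R hR x hx => ?_)
  choose W g w hg hw using (mem_topology_iff R).1 hR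
  refine ⟨fun p => x (g p) (hg p) (w p), fun W' g' hg' => ?_, fun t ht => ?_⟩
  · refine funext fun q => ?_
    let p : V.left := g'.left q
    obtain ⟨z, hz₁, hz₂⟩ := Scheme.Pullback.exists_preimage_pullback (f := (g p).left) (g := g'.left) (w p) q (hw p)
    haveI : AlgebraicGeometry.Etale (g p).left := etale_left _
    haveI : AlgebraicGeometry.Etale g'.left := etale_left _
    haveI : AlgebraicGeometry.Etale (W p).hom := (W p).prop
    let P : S.Etale := Scheme.Etale.mk (pullback.fst (g p).left g'.left ≫ (W p).hom)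
    let a : P ⟶ W p := MorphismProperty.Over.homMk (pullback.fst (g p).left g'.left) rfl
    let b : P ⟶ W' := MorphismProperty.Over.homMk (pullback.snd (g p).left g'.left) (by
      show pullback.snd (g p).left g'.left ≫ W'.hom = pullback.fst (g p).left g'.left ≫ (W p).hom
      rw [← MorphismProperty.Over.w g', ← MorphismProperty.Over.w (g p)]
      rw [← Category.assoc, ← Category.assoc, pullback.condition])
    have h := congrFun (hx a b (hg p) hg' (MorphismProperty.Over.Hom.ext pullback.condition)) z
    show x (g p) (hg p) (w p) = x g' hg' q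
    rw [← hz₁, ← hz₂]
    exact h
  · refine funext fun p => ?_
    have h := congrFun (ht (g p) (hg p)) (w p)
    rw [← h]
    exact congrArg t (hw p).symm

/-- the sheaf of integer functions on the points -/
noncomputable def ptFun (S : Scheme.{u}) : EtCoh.Ab S := ⟨ptFunPre S, isSheaf_ptFunPre S⟩

theorem galH1Trivial_ptFun (k : Type u) [Field k] : GalH1Trivial k (ptFun (Spec (CommRingCat.of k))) := by
  intro M _ _ _ _ c hc
  refine ⟨0, fun σ => ?_⟩
  rw [map_zero, sub_zero]
  haveI : Subsingleton (extObj k M).left := inferInstanceAs (Subsingleton (PrimeSpectrum M))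
  have htriv : ∀ (τ : extObj k M ≅ extObj k M) (s : EtCoh.sect (ptFun (Spec (CommRingCat.of k))) (extObj k M)),
      (ptFun (Spec (CommRingCat.of k))).obj.map τ.hom.op s = s := fun τ s =>
    funext fun p => congrArg s (Subsingleton.elim _ _)
  have hadd : ∀ σ τ, c (σ ≪≫ τ) = c τ + c σ := fun σ τ => by rw [hc, htriv]
  obtain ⟨g, rfl⟩ := exists_autIso M σ
  have hpow : ∀ n : ℕ, c (autIso k (g ^ (n + 1))) = (n + 1) • c (autIso k g) := fun n => by
    induction n with
    | zero => simp
    | succ n ih =>
      rw [pow_succ, show autIso k (g ^ (n + 1) * g) = autIso k (g ^ (n + 1)) ≪≫ autIso k g from ?_,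
        hadd, ih, succ_nsmul' (c (autIso k g)) (n + 1)]
      refine Iso.ext ?_
      show extMap _ = extMap (g ^ (n + 1) : Gal(M/k)).toAlgHom ≫ extMap g.toAlgHom
      rw [extMap_comp]
      rfl
  have h1 : c (autIso k (1 : Gal(M/k))) = 0 := by
    have e : autIso k (1 : Gal(M/k)) = autIso k (1 : Gal(M/k)) ≪≫ autIso k (1 : Gal(M/k)) := by
      refine Iso.ext ?_
      show extMap _ = extMap (1 : Gal(M/k)).toAlgHom ≫ extMap (1 : Gal(M/k)).toAlgHom
      rw [extMap_comp]
      rfl
    have h := congrArg c e
    rw [hadd] at h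
    exact left_eq_add.1 h
  obtain ⟨n, hn⟩ : ∃ n, orderOf g = n + 1 := ⟨orderOf g - 1, (Nat.succ_pred_eq_of_pos (orderOf_pos g)).symm⟩
  have h2 := hpow n
  rw [← hn, pow_orderOf_eq_one, h1] at h2
  refine funext fun p => ?_
  have h3 := congrFun h2 p
  refine ULift.ext _ _ ?_
  have h4 : ((0 : ℤ) : ℤ) = orderOf g • (c (autIso k g) p).down := congrArg ULift.down h3
  rcases smul_eq_zero.1 h4.symm with h5 | h5
  · exact absurd h5 (orderOf_pos g).ne'
  · exact h5

end Groth.Agent.BrauerXFact
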