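import Groth.Agent.BrauerXFact.Sect
import Groth.Agent.BrauerXFact.PtFun

/-!
# The divisor of a meromorphic unit at points of codimension one
-/

universe u

open CategoryTheory CategoryTheory.Limits AlgebraicGeometry Opposite TopologicalSpace

namespace Groth.Agent.BrauerXFact

open Groth.Agent.EtFound Groth.Agent.BrauerXCurve

set_option backward.isDefEq.respectTransparency.types false

section Ord

variable {R : Type u} [CommRing R] [IsDomain R] [IsDiscreteValuationRing R]

theorem exists_ord (f : (FractionRing R)ˣ) : ∃ (n : ℤ) (ϖ : R) (e : Rˣ), Irreducible ϖ ∧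
    (f : FractionRing R) = algebraMap R (FractionRing R) ϖ ^ n * algebraMap R (FractionRing R) e := by
  obtain ⟨ϖ, hϖ⟩ := IsDiscreteValuationRing.exists_irreducible R
  obtain ⟨a, b, hb, hab⟩ := IsFractionRing.div_surjective (A := R) (f : FractionRing R)
  have hb0 : b ≠ 0 := nonZeroDivisors.ne_zero hb
  have ha0 : a ≠ 0 := fun h => f.ne_zero (by rw [← hab, h, map_zero, zero_div])
  obtain ⟨m, e, rfl⟩ := IsDiscreteValuationRing.eq_unit_mul_pow_irreducible ha0 hϖ
  obtain ⟨l, d, rfl⟩ := IsDiscreteValuationRing.eq_unit_mul_pow_irreducible hb0 hϖ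
  have hp : algebraMap R (FractionRing R) ϖ ≠ 0 :=
    (map_ne_zero_iff _ (IsFractionRing.injective R (FractionRing R))).2 hϖ.ne_zero
  have hd : algebraMap R (FractionRing R) (d : R) ≠ 0 := (d.isUnit.map _).ne_zero
  refine ⟨(m : ℤ) - (l : ℤ), ϖ, e * d⁻¹, hϖ, ?_⟩
  rw [← hab, map_mul, map_mul, map_pow, map_pow, zpow_sub₀ hp, zpow_natCast, zpow_natCast, Units.val_mul, map_mul,
    map_units_inv]
  field_simp

theorem ord_unique {n m : ℤ} {ϖ ϖ' : R} (hϖ : Irreducible ϖ) (hϖ' : Irreducible ϖ') {e e' : Rˣ}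
    (h : algebraMap R (FractionRing R) ϖ ^ n * algebraMap R (FractionRing R) e =
      algebraMap R (FractionRing R) ϖ' ^ m * algebraMap R (FractionRing R) e') : n = m := by
  obtain ⟨c, rfl⟩ := IsDiscreteValuationRing.associated_of_irreducible R hϖ hϖ'
  let P := algebraMap R (FractionRing R) ϖ
  have hp : P ≠ 0 := (map_ne_zero_iff _ (IsFractionRing.injective R (FractionRing R))).2 hϖ.ne_zero
  let A : (FractionRing R)ˣ := Units.mk0 P hp
  let φ : Rˣ →* (FractionRing R)ˣ := Units.map (algebraMap R (FractionRing R)).toMonoidHom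
  have h' : A ^ n * φ e = (A * φ c) ^ m * φ e' := Units.ext (by
    simp only [Units.val_mul, Units.val_zpow_eq_zpow_val]
    rw [map_mul] at h
    exact h)
  have h'' : A ^ (n - m) = φ (c ^ m * e' * e⁻¹) := by
    rw [map_mul, map_mul, map_zpow, map_inv, zpow_sub, eq_mul_inv_iff_mul_eq, mul_right_comm, ← div_eq_mul_inv,
      div_eq_iff_eq_mul, h', mul_zpow, mul_right_comm (φ c ^ m), mul_comm (A ^ m)]
  suffices key : ∀ (j : ℕ) (d : Rˣ), A ^ j = φ d → j = 0 by
    rcases Int.eq_nat_or_neg (n - m) with ⟨j, hj | hj⟩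
    · rw [hj, zpow_natCast] at h''
      have := key j _ h''
      omega
    · rw [hj, zpow_neg, zpow_natCast, inv_eq_iff_eq_inv, ← map_inv] at h''
      have := key j _ h''
      omega
  intro j d hd
  by_contra hj
  have h1 : algebraMap R (FractionRing R) (ϖ ^ j) = algebraMap R (FractionRing R) d := by
    rw [map_pow]
    exact (Units.val_pow_eq_pow_val A j).symm.trans (congrArg Units.val hd)
  exact hϖ.not_isUnit ((isUnit_pow_iff hj).1 (IsFractionRing.injective R (FractionRing R) h1 ▸ d.isUnit))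

/-- the order at the maximal ideal -/
noncomputable def ord (f : (FractionRing R)ˣ) : ℤ := (exists_ord f).choose

theorem ord_eq {f : (FractionRing R)ˣ} {n : ℤ} {ϖ : R} (hϖ : Irreducible ϖ) (e : Rˣ)
    (h : (f : FractionRing R) = algebraMap R (FractionRing R) ϖ ^ n * algebraMap R (FractionRing R) e) :
    ord f = n := by
  obtain ⟨ϖ', e', hϖ', h'⟩ := (exists_ord f).choose_spec
  exact ord_unique hϖ' hϖ (h'.symm.trans h)

theorem ord_mul (f g : (FractionRing R)ˣ) : ord (f * g) = ord f + ord g := by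
  obtain ⟨n, ϖ, e, hϖ, hf⟩ := exists_ord f
  obtain ⟨m, ϖ', e', hϖ', hg⟩ := exists_ord g
  obtain ⟨c, rfl⟩ := IsDiscreteValuationRing.associated_of_irreducible R hϖ hϖ'
  rw [ord_eq hϖ e hf, ord_eq hϖ' e' hg]
  refine ord_eq hϖ (e * (c ^ m * e')) ?_
  have hp : algebraMap R (FractionRing R) ϖ ≠ 0 :=
    (map_ne_zero_iff _ (IsFractionRing.injective R (FractionRing R))).2 hϖ.ne_zero
  have hc : algebraMap R (FractionRing R) ((c ^ m : Rˣ) : R) = algebraMap R (FractionRing R) c ^ m := by
    have h := congrArg Units.val (map_zpow (Units.map (algebraMap R (FractionRing R)).toMonoidHom) c m)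
    rw [Units.val_zpow_eq_zpow_val] at h
    exact h
  rw [Units.val_mul, hf, hg, Units.val_mul, Units.val_mul, map_mul, map_mul, map_mul, hc, mul_zpow, zpow_add₀ hp]
  ring

theorem ord_eq_zero_iff (f : (FractionRing R)ˣ) :
    ord f = 0 ↔ ∃ e : Rˣ, (f : FractionRing R) = algebraMap R (FractionRing R) e := by
  obtain ⟨n, ϖ, e, hϖ, hf⟩ := exists_ord f
  rw [ord_eq hϖ e hf]
  refine ⟨fun h => ⟨e, by rw [hf, h, zpow_zero, one_mul]⟩, fun ⟨e', he'⟩ => ?_⟩
  exact ord_unique hϖ hϖ (e := e) (e' := e') (by rw [← hf, he', zpow_zero, one_mul])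

end Ord

variable {X : Scheme.{u}} [AlgebraicGeometry.IsNoetherian X] [FactEt X] {V W : X.Etale}

open Classical in
/-- the order of a section at a point of codimension one -/
noncomputable def ordAt (V : X.Etale) (w : V.left) (σ : EtCoh.sect (PS X) V) : ℤ :=
  if h : IsC1 w then haveI := isDVR h; ord (rho V w σ) else 0

theorem ordAt_eq {w : V.left} (h : IsC1 w) (σ : EtCoh.sect (PS X) V) :
    haveI := isDVR h
    ordAt V w σ = ord (rho V w σ) := by
  unfold ordAt
  rw [dif_pos h]

theorem ordAt_add (w : V.left) (σ τ : EtCoh.sect (PS X) V) :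
    ordAt V w (σ + τ) = ordAt V w σ + ordAt V w τ := by
  unfold ordAt
  by_cases h : IsC1 w
  · haveI := isDVR h
    rw [dif_pos h, dif_pos h, dif_pos h, rho_add, ord_mul]
  · rw [dif_neg h, dif_neg h, dif_neg h, add_zero]

theorem ordAt_map (r : W ⟶ V) (w : W.left) (hy : IsC1 (W.hom w)) (σ : EtCoh.sect (PS X) V) :
    ordAt W w ((PS X).obj.map r.op σ) = ordAt V (r.left w) σ := by
  have hw : IsC1 w := isC1_generalizations hy
  have hv : IsC1 (r.left w) := isC1_generalizations (by rwa [apply_hom r w])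
  haveI := isDVR hw
  haveI := isDVR hv
  rw [ordAt_eq hw, ordAt_eq hv]
  obtain ⟨n, ϖ, e, hϖ, hf⟩ := exists_ord (rho V (r.left w) σ)
  rw [ord_eq hϖ e hf]
  refine ord_eq (irreducible_phi r w hw hv hϖ) (Units.map (phi r (specializes_refl _)).toMonoidHom e) ?_
  rw [rho_map r (specializes_refl (r.left w)) σ, hf, map_mul, map_zpow₀, psi_algebraMap, psi_algebraMap]
  rfl

theorem ordAt_eq_zero_iff {w : V.left} (h : IsC1 w) (σ : EtCoh.sect (PS X) V) :
    ordAt V w σ = 0 ↔ ∃ e : (V.left.presheaf.stalk w)ˣ, (rho V w σ : K V w) = algebraMap _ _ (e : V.left.presheaf.stalk w) := by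
  haveI := isDVR h
  rw [ordAt_eq h]
  exact ord_eq_zero_iff _

variable (y : X)

/-- the part over a point -/
noncomputable abbrev resPt : Spec (CommRingCat.of (X.residueField y)) ⟶ X := X.fromSpecResidueField y

/-- the projection of the part over a point -/
noncomputable abbrev fstY (V : X.Etale) : ((EtCoh.bc (resPt y)).obj V).left ⟶ V.left :=
  pullback.fst V.hom (resPt y)

omit [AlgebraicGeometry.IsNoetherian X] [FactEt X] in
theorem hom_fstY (V : X.Etale) (p : ((EtCoh.bc (resPt y)).obj V).left) : V.hom (fstY y V p) = y := by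
  have h1 : V.hom (fstY y V p) = resPt y (pullback.snd V.hom (resPt y) p) := by
    rw [← Scheme.Hom.comp_apply, ← Scheme.Hom.comp_apply]
    exact congrArg (fun f : ((EtCoh.bc (resPt y)).obj V).left ⟶ X => f p) pullback.condition
  exact h1.trans (Scheme.fromSpecResidueField_apply y _)

variable {y}

/-- the divisor at a point of codimension one -/
noncomputable def divP (hy : IsC1 y) : PS X ⟶ (EtCoh.push (resPt y)).obj (ptFun (Spec (CommRingCat.of (X.residueField y)))) :=
  ⟨{ app := fun V => AddCommGrpCat.ofHom (AddMonoidHom.mk'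
      (fun σ p => ULift.up (ordAt V.unop (fstY y V.unop p) σ))
      fun σ τ => funext fun p => ULift.ext _ _ (ordAt_add _ σ τ))
     naturality := fun V W r => by
      refine AddCommGrpCat.ext fun σ => funext fun p => ULift.ext _ _ ?_
      show ordAt W.unop (fstY y W.unop p) ((PS X).obj.map r σ) =
        ordAt V.unop (fstY y V.unop (((EtCoh.bc (resPt y)).map r.unop).left p)) σ
      rw [show r = r.unop.op from rfl, ordAt_map r.unop _ (by rw [hom_fstY]; exact hy), ← Scheme.Hom.comp_apply,
        ← Scheme.Hom.comp_apply]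
      exact congrArg (fun z => ordAt V.unop z σ) (congrArg (fun f : _ ⟶ V.unop.left => f p)
        (EtCoh.isPullback_bc_map (resPt y) r.unop).w).symm }⟩

theorem toMax_divP (hy : IsC1 y) : toMax X ≫ divP hy = 0 := by
  ext V s
  refine funext fun p => ULift.ext _ _ ?_
  show ordAt V.unop (fstY y V.unop p) ((toMax X).hom.app V s) = 0
  have hp : IsC1 (fstY y V.unop p) := isC1_generalizations (by rw [hom_fstY]; exact hy)
  rw [ordAt_eq_zero_iff hp]
  let s' : EtCoh.sect (EtCoh.Gm X) V.unop := s
  refine ⟨(((gmFun s').isUnit.map (V.unop.left.presheaf.germ ⊤ (fstY y V.unop p) trivial).hom)).unit, ?_⟩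
  rw [IsUnit.unit_spec]
  exact rho_toMax V.unop _ s'

/-- the quotient by `G_m` -/
noncomputable abbrev QS (X : Scheme.{u}) [AlgebraicGeometry.IsNoetherian X] : EtCoh.Ab X := cokernel (toMax X)

/-- the divisor on the quotient -/
noncomputable def divQ (hy : IsC1 y) : QS X ⟶ (EtCoh.push (resPt y)).obj (ptFun (Spec (CommRingCat.of (X.residueField y)))) :=
  cokernel.desc _ (divP hy) (toMax_divP hy)

theorem π_divQ (hy : IsC1 y) : cokernel.π (toMax X) ≫ divQ hy = divP hy := cokernel.π_desc _ _ _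

end Groth.Agent.BrauerXFact
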