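import Groth.Agent.BrauerXFact.Local
import Groth.Agent.EtSupp70.Supp

/-!
# The quotient by `G_m` with supports in a closed set without maximal points
-/

universe u

open CategoryTheory CategoryTheory.Limits AlgebraicGeometry Opposite TopologicalSpace

namespace Groth.Agent.BrauerXFact

open Groth.Agent.EtFound Groth.Agent.BrauerXCurve Groth.Agent.EtSupp70

set_option backward.isDefEq.respectTransparency.types false

variable {X : Scheme.{u}}

/-- the points of codimension one in a closed set -/
def TA (A : Closeds X) : Type u := {y : X // y ∈ A ∧ IsC1 y}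

/-- no maximal point lies in the closed set -/
def MaxFree (A : Closeds X) : Prop := ∀ x ∈ A, ¬ IsMaxPt x

variable [AlgebraicGeometry.IsNoetherian X]

theorem finite_TA {A : Closeds X} (hA : MaxFree A) : Finite (TA A) := by
  obtain ⟨S, hfin, hcl, hirr, hS⟩ := NoetherianSpace.exists_finite_set_isClosed_irreducible A.isClosed
  haveI := hfin.to_subtype
  have key : ∀ y : TA A, ∃ T : S, (hirr T.1 T.2).genericPoint = y.1 := fun ⟨y, hyA, hy⟩ => by
    have hy' : y ∈ ⋃₀ S := hS ▸ hyA
    obtain ⟨T, hT, hyT⟩ := hy'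
    have hg := (hirr T hT).isGenericPoint_genericPoint (hcl T hT)
    refine ⟨⟨T, hT⟩, by_contra fun hne => ?_⟩
    have hm : (hirr T hT).genericPoint ∈ A := by
      show _ ∈ (A : Set X)
      rw [hS]
      exact ⟨T, hT, hg.mem⟩
    exact hA _ hm (hy.2 _ (hg.specializes hyT) hne)
  choose f hf using key
  exact Finite.of_injective f fun a b e => Subtype.ext (by rw [← hf a, ← hf b, e])

variable [FactEt X]

/-- the targets of the divisor -/
noncomputable abbrev DT (y : X) : EtCoh.Ab X :=
  (EtCoh.push (resPt y)).obj (ptFun (Spec (CommRingCat.of (X.residueField y))))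

variable (A : Closeds X) [Finite (TA A)]

/-- the divisor of a section with support in a closed set -/
noncomputable def divA : (sub A).obj (QS X) ⟶ ⨁ fun y : TA A => DT y.1 :=
  biproduct.lift fun y => subι A (QS X) ≫ divQ y.2.2

variable {A} {V W : X.Etale}

theorem divA_comp (y : TA A) (c : EtCoh.sect ((sub A).obj (QS X)) V) (σ : EtCoh.sect (PS X) V)
    (hσ : (cokernel.π (toMax X)).hom.app (op V) σ = (subι A (QS X)).hom.app (op V) c) :
    (biproduct.π (fun y : TA A => DT y.1) y).hom.app (op V) ((divA A).hom.app (op V) c) =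
      (divP y.2.2).hom.app (op V) σ := by
  have h : divA A ≫ biproduct.π (fun y : TA A => DT y.1) y = subι A (QS X) ≫ divQ y.2.2 := biproduct.lift_π _ _
  refine (congrArg (fun m => m.hom.app (op V) c) h).trans ?_
  show (divQ y.2.2).hom.app (op V) ((subι A (QS X)).hom.app (op V) c) = _
  rw [← hσ]
  exact congrArg (fun m => m.hom.app (op V) σ) (π_divQ y.2.2)

omit [AlgebraicGeometry.IsNoetherian X] [FactEt X] in
theorem exists_fstY (y : X) (w : V.left) (h : V.hom w = y) : ∃ p, fstY y V p = w := by
  have hr : w ∈ Set.range (fstY y V).base := by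
    refine (Set.ext_iff.1 (Scheme.Pullback.range_fst V.hom (resPt y)) w).2 ?_
    exact (Set.ext_iff.1 (Scheme.range_fromSpecResidueField y) (V.hom w)).2 h
  exact hr

omit [AlgebraicGeometry.IsNoetherian X] [FactEt X] in
theorem fstY_injective (y : X) (V : X.Etale) : Function.Injective (fstY y V) := by
  haveI : IsPreimmersion (fstY y V) :=
    MorphismProperty.pullback_fst (P := @IsPreimmersion) V.hom (resPt y) (inferInstanceAs (IsPreimmersion (X.fromSpecResidueField y)))
  exact (fstY y V).isEmbedding.injective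

omit [AlgebraicGeometry.IsNoetherian X] [FactEt X] in
theorem sect_biprod_ext {ι : Type u} [Finite ι] {P : ι → EtCoh.Ab X} {s t : EtCoh.sect (⨁ P) V}
    (h : ∀ a, (biproduct.π P a).hom.app (op V) s = (biproduct.π P a).hom.app (op V) t) : s = t := by
  classical
  haveI := Fintype.ofFinite ι
  let Φ : (⨁ P ⟶ ⨁ P) →+ EtCoh.sect (⨁ P) V :=
    { toFun := fun m => m.hom.app (op V) s - m.hom.app (op V) t
      map_zero' := sub_self _
      map_add' := fun a b => by
        show (a.hom.app (op V) s + b.hom.app (op V) s) - (a.hom.app (op V) t + b.hom.app (op V) t) = _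
        abel }
  have h1 := congrArg Φ (biprod_total P)
  rw [map_sum, Finset.sum_eq_zero fun x _ => ?_] at h1
  · exact (sub_eq_zero.1 h1.symm)
  · show (biproduct.ι P x).hom.app (op V) ((biproduct.π P x).hom.app (op V) s) -
      (biproduct.ι P x).hom.app (op V) ((biproduct.π P x).hom.app (op V) t) = 0
    rw [h x, sub_self]

/-- `G_m` injects into the meromorphic units -/
theorem mono_toMax : Mono (toMax X) := by
  haveI : ∀ T, Mono ((toMax X).hom.app T) := fun T => (AddCommGrpCat.mono_iff_injective _).2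
    ((injective_iff_map_eq_zero ((toMax X).hom.app T).hom).2 fun s hs => by
      let s' : EtCoh.sect (EtCoh.Gm X) T.unop := s
      refine gmFun_ext (V := T.unop) (TopCat.Presheaf.section_ext T.unop.left.sheaf ⊤ (gmFun s' : Γ(T.unop.left, ⊤))
        (gmFun (0 : EtCoh.sect (EtCoh.Gm X) T.unop) : Γ(T.unop.left, ⊤)) fun v _ => ?_)
      refine IsFractionRing.injective (T.unop.left.presheaf.stalk v) (K T.unop v) ?_
      refine (rho_toMax T.unop v s').symm.trans (Eq.trans ?_ (rho_toMax T.unop v 0))
      exact congrArg (fun σ => (rho T.unop v σ : K T.unop v)) (hs.trans (map_zero _).symm))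
  haveI : Mono ((sheafToPresheaf X.smallEtaleTopology AddCommGrpCat.{u + 1}).map (toMax X)) :=
    show Mono (toMax X).hom from NatTrans.mono_of_mono_app _
  exact (sheafToPresheaf X.smallEtaleTopology AddCommGrpCat.{u + 1}).mono_of_mono_map inferInstance

/-- the kernel of the projection comes from units -/
theorem exists_of_π_eq_zero (σ : EtCoh.sect (PS X) V) (h : (cokernel.π (toMax X)).hom.app (op V) σ = 0) :
    ∃ s : EtCoh.sect (EtCoh.Gm X) V, (toMax X).hom.app (op V) s = σ := by
  haveI := mono_toMax (X := X)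
  exact (BrauerXPic.sect_exact (S := ShortComplex.mk (toMax X) (cokernel.π (toMax X)) (cokernel.condition _))
    { exact := ShortComplex.exact_of_g_is_cokernel _ (cokernelIsCokernel _) } V).2 σ h

theorem mono_divA : Mono (divA A) := by
  suffices key : ∀ (W : X.Etale) (c : EtCoh.sect ((sub A).obj (QS X)) W), (divA A).hom.app (op W) c = 0 → c = 0 by
    haveI : ∀ T, Mono ((divA A).hom.app T) := fun T =>
      (AddCommGrpCat.mono_iff_injective _).2 ((injective_iff_map_eq_zero ((divA A).hom.app T).hom).2 (key T.unop))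
    haveI : Mono ((sheafToPresheaf X.smallEtaleTopology AddCommGrpCat.{u + 1}).map (divA A)) :=
      show Mono (divA A).hom from NatTrans.mono_of_mono_app _
    exact (sheafToPresheaf X.smallEtaleTopology AddCommGrpCat.{u + 1}).mono_of_mono_map inferInstance
  intro W c hc
  refine (sect_kernel (EtDual.unitApp (cj A) (QS X)) W).1 (Eq.trans ?_ (map_zero _).symm)
  refine eq_zero_of_local _ _ fun w => ?_
  obtain ⟨U, r, u, σ, hσ, hu⟩ := exists_local_lift (cokernel.π (toMax X)) ((subι A (QS X)).hom.app (op W) c) w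
  have hσ' : (cokernel.π (toMax X)).hom.app (op U) σ =
      (subι A (QS X)).hom.app (op U) (((sub A).obj (QS X)).obj.map r.op c) :=
    hσ.trans (NatTrans.naturality_apply (subι A (QS X)).hom r.op c).symm
  have hord : ∀ q : U.left, IsC1 q → ordAt U q σ = 0 := fun q hq => by
    by_cases hqA : U.hom q ∈ A
    · let y : TA A := ⟨U.hom q, hqA, isC1_hom hq⟩
      obtain ⟨p, hp⟩ := exists_fstY y.1 q rfl
      have h1 := divA_comp y _ σ hσ'
      rw [NatTrans.naturality_apply (divA A).hom, hc, map_zero, map_zero] at h1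
      have h2 := congrArg ULift.down (congrFun h1 p)
      rw [← hp]
      exact h2.symm
    · obtain ⟨Ω, _, _, ξ, z, rfl⟩ := exists_algClosed_point U q
      have hz : IsZero ((EtCoh.stalk ξ).obj ((sub A).obj (QS X))) := by
        by_contra h0
        exact hqA (Set.mem_of_eq_of_mem (hom_ptOf z) (supp_sub_subset A (QS X) ((EtPBC63.mem_supp_iff ξ).2 h0)))
      have h0 : (Scheme.pointSmallEtale ξ).toPresheafFiber U z (QS X).obj ((cokernel.π (toMax X)).hom.app (op U) σ) = 0 := by
        rw [hσ', ← (Scheme.pointSmallEtale ξ).toPresheafFiber_naturality_apply (subι A (QS X)).hom U z]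
        haveI := AddCommGrpCat.subsingleton_of_isZero hz
        exact (congrArg _ (Subsingleton.elim (α := (EtCoh.stalk ξ).obj ((sub A).obj (QS X))) _ 0)).trans (map_zero _)
      rw [← map_zero ((Scheme.pointSmallEtale ξ).toPresheafFiber U z (QS X).obj).hom] at h0
      obtain ⟨U', f, z', hz', hf⟩ := ((Scheme.pointSmallEtale ξ).toPresheafFiber_eq_iff' U z _ _).1 h0
      rw [map_zero, ← NatTrans.naturality_apply (cokernel.π (toMax X)).hom] at hf
      obtain ⟨s, hs⟩ := exists_of_π_eq_zero ((PS X).obj.map f.op σ) hf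
      have hp : f.left (ptOf z') = ptOf z := by
        rw [← hz']
        exact (ptOf_map f z').symm
      have hC : IsC1 (U'.hom (ptOf z')) := by
        rw [← apply_hom f (ptOf z'), hp]
        exact isC1_hom hq
      show ordAt U (ptOf z) σ = 0
      rw [← hp, ← ordAt_map f (ptOf z') hC, ← hs]
      exact ordAt_unit _ (((gmFun s).isUnit).map _) (rho_toMax U' _ s)
  obtain ⟨U', r', u', hu', h'⟩ := exists_nhd_π_eq_zero σ u fun q _ hq => hord q hq
  refine ⟨U', r' ≫ r, u', ?_, ?_⟩
  · rw [op_comp, Functor.map_comp_apply, ← hσ]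
    exact h'
  · show r.left (r'.left u') = w
    rw [hu', hu]

/-- sections with support in a closed set -/
theorem exists_sub_of_ord (σ : EtCoh.sect (PS X) V)
    (h : ∀ q : V.left, IsC1 q → V.hom q ∉ A → ordAt V q σ = 0) :
    ∃ c : EtCoh.sect ((sub A).obj (QS X)) V,
      (subι A (QS X)).hom.app (op V) c = (cokernel.π (toMax X)).hom.app (op V) σ := by
  refine (sect_kernel (EtDual.unitApp (cj A) (QS X)) V).2 _ (exists_sect_lift A (QS X) V _ fun q hq => by_contra fun hqA => ?_)
  obtain ⟨U, r, u, hu, h0⟩ := exists_nhd_π_eq_zero σ q fun w hw hC => h w hC fun hwA =>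
    hqA ((hw.map V.hom.continuous).mem_closed A.isClosed hwA)
  obtain ⟨Ω, _, _, ξ, z, hz⟩ := exists_algClosed_point V q
  obtain ⟨z', hz', -⟩ := exists_lift_point r z u (hu.trans hz.symm)
  rw [← hz] at hq
  refine (mem_germSupp_iff _ z).1 hq ?_
  rw [← fiber_map_eq (QS X) ξ r z' z hz', h0, map_zero]

open Classical in
/-- the value of a function on the fibres at a point -/
noncomputable def valAt (s : EtCoh.sect (⨁ fun y : TA A => DT y.1) V) (q : V.left) : ℤ :=
  if h : ∃ (y : TA A) (p : ((EtCoh.bc (resPt y.1)).obj V).left), fstY y.1 V p = q then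
    (((biproduct.π (fun y : TA A => DT y.1) h.choose).hom.app (op V) s) h.choose_spec.choose).down
  else 0

theorem valAt_fstY (s : EtCoh.sect (⨁ fun y : TA A => DT y.1) V) (y : TA A)
    (p : ((EtCoh.bc (resPt y.1)).obj V).left) :
    valAt s (fstY y.1 V p) = (((biproduct.π (fun y : TA A => DT y.1) y).hom.app (op V) s) p).down := by
  have h : ∃ (y' : TA A) (p' : ((EtCoh.bc (resPt y'.1)).obj V).left), fstY y'.1 V p' = fstY y.1 V p := ⟨y, p, rfl⟩
  unfold valAt
  rw [dif_pos h]
  have key : ∀ (y' : TA A) (p' : ((EtCoh.bc (resPt y'.1)).obj V).left), fstY y'.1 V p' = fstY y.1 V p →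
      (((biproduct.π (fun y : TA A => DT y.1) y').hom.app (op V) s) p').down =
        (((biproduct.π (fun y : TA A => DT y.1) y).hom.app (op V) s) p).down := fun y' p' e => by
    obtain rfl : y' = y := Subtype.ext (by rw [← hom_fstY y'.1 V p', ← hom_fstY y.1 V p, e])
    obtain rfl : p' = p := fstY_injective y'.1 V e
    rfl
  exact key _ _ h.choose_spec.choose_spec

theorem epi_divA : Epi (divA A) := by
  classical
  refine (Sheaf.isLocallySurjective_iff_epi' _ _).1 ⟨fun {W} s => (mem_topology_iff _).2 fun x => ?_⟩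
  obtain ⟨O₀, hx, hc, hU₀⟩ := exists_uniqMax_nhd W x
  let V := restrictEtale W O₀
  let v : V.left := ⟨x, hx⟩
  haveI : CompactSpace V.left := hc
  haveI : QuasiCompact V.hom := @quasiCompact_of_compactSpace V.left X V.hom hc inferInstance
  haveI : AlgebraicGeometry.Etale V.hom := V.prop
  haveI := EtShriekLib.locallyQuasiFinite_of_etale V.hom
  let B : Set V.left := {q | IsC1 q ∧ V.hom q ∈ A}
  have hB : B.Finite := by
    refine (Set.finite_iUnion fun y : TA A => V.hom.finite_preimage_singleton y.1).subset fun q hq => ?_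
    exact Set.mem_iUnion.2 ⟨⟨V.hom q, hq.2, isC1_hom hq.1⟩, rfl⟩
  let Cl : Set V.left := ⋃ q ∈ {q ∈ B | ¬ q ⤳ v}, closure {q}
  have hCl : IsClosed Cl := (hB.subset fun q hq => hq.1).isClosed_biUnion fun q _ => isClosed_closure
  have hvCl : v ∉ Cl := fun hm => by
    obtain ⟨q, hq, hvq⟩ := Set.mem_iUnion₂.1 hm
    exact hq.2 (specializes_iff_mem_closure.2 hvq)
  let B₂ := {q : V.left // q ∈ B ∧ q ⤳ v}
  haveI : Finite B₂ := (hB.subset fun q (hq : q ∈ B ∧ q ⤳ v) => hq.1).to_subtype
  haveI := Fintype.ofFinite B₂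
  choose O g hvO hne hirr hunit using fun w : B₂ => exists_local_fun w.2.2 w.2.1.1
  let O₁ : V.left.Opens := ⟨(⋂ w : B₂, (O w : Set V.left)) ∩ Clᶜ,
    (isOpen_iInter_of_finite fun w => (O w).isOpen).inter hCl.isOpen_compl⟩
  let U := restrictEtale V O₁
  let r : U ⟶ V := restrictEtaleHom V O₁
  let u : U.left := ⟨v, Set.mem_iInter.2 hvO, hvCl⟩
  have hU : UniqMax U := uniqMax_restrict hU₀ O₁
  have hO : ∀ w, (⊤ : U.left.Opens) ≤ r.left ⁻¹ᵁ O w := fun w q _ => Set.mem_iInter.1 q.2.1 w
  let f : B₂ → Γ(U.left, ⊤) := fun w => pullFun r (hO w) (g w)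
  have hf : ∀ w, U.left.presheaf.germ ⊤ u trivial (f w) ≠ 0 := fun w => by
    rw [germ_pullFun r (hO w) (g w) (v := v) (specializes_refl v) (hvO w)]
    exact (map_ne_zero_iff _ (phi_injective r _)).2 (hne w)
  choose σw hσw using fun w => exists_sect hU u (f w) (hf w)
  let sU := (⨁ fun y : TA A => DT y.1).obj.map (r ≫ restrictEtaleHom W O₀).op s
  let mem : ∀ w : B₂, U.left := fun w => ⟨w.1, w.2.2.mem_open O₁.isOpen ⟨Set.mem_iInter.2 hvO, hvCl⟩⟩
  have hord : ∀ (q : U.left) (w : B₂), IsC1 q → ordAt U q (σw w) = if mem w = q then 1 else 0 := fun q w hq => by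
    have hqV : IsC1 (r.left q) := isC1_map r hq
    have hqO : r.left q ∈ O w := hO w (x := q) trivial
    have hrho := (hσw w q).trans (congrArg _ (germ_pullFun r (hO w) (g w) (specializes_refl (r.left q)) hqO))
    split_ifs with he
    · subst he
      exact ordAt_irreducible hq _ (irreducible_phi r (mem w) hq hqV (hirr w)) hrho
    · refine ordAt_unit _ ((hunit w (r.left q) hqO fun hs => he ?_).map _) hrho
      exact Subtype.ext (eq_of_isC1_specializes w.2.1.1 hqV hs)
  let σ : EtCoh.sect (PS X) U := ∑ w, valAt sU (mem w) • σw w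
  have hσord : ∀ q : U.left, IsC1 q → ordAt U q σ = ∑ w, valAt sU (mem w) * if mem w = q then 1 else 0 := fun q hq => by
    show ordHom U q σ = _
    rw [map_sum]
    refine Finset.sum_congr rfl fun w _ => ?_
    rw [map_zsmul, smul_eq_mul]
    exact congrArg _ (hord q w hq)
  obtain ⟨c, hc'⟩ := exists_sub_of_ord (A := A) σ fun q hq hqA => by
    rw [hσord q hq]
    refine Finset.sum_eq_zero fun w _ => ?_
    rw [if_neg, mul_zero]
    rintro rfl
    exact hqA (Set.mem_of_eq_of_mem (apply_hom r (mem w)).symm w.2.1.2)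
  refine ⟨U, r ≫ restrictEtaleHom W O₀, u, ⟨c, ?_⟩, rfl⟩
  refine sect_biprod_ext fun y => funext fun p => ULift.ext _ _ ?_
  rw [divA_comp y c σ hc'.symm]
  show ordAt U (fstY y.1 U p) σ = _
  let q : U.left := fstY y.1 U p
  have hqy : U.hom q = y.1 := hom_fstY y.1 U p
  have hq : IsC1 q := isC1_generalizations (by rw [hqy]; exact y.2.2)
  have hqB : r.left q ∈ B := ⟨isC1_map r hq, by rw [apply_hom r q, hqy]; exact y.2.1⟩
  have hqv : r.left q ⤳ v := by_contra fun hn => q.2.2 (Set.mem_iUnion₂.2 ⟨_, ⟨hqB, hn⟩, subset_closure rfl⟩)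
  let w₀ : B₂ := ⟨r.left q, hqB, hqv⟩
  have hw₀ : mem w₀ = q := Subtype.ext rfl
  rw [hσord q hq, Finset.sum_eq_single w₀]
  · rw [if_pos hw₀, mul_one, hw₀]
    exact valAt_fstY sU y p
  · intro w _ hw
    rw [if_neg (fun (he : mem w = q) => hw (Subtype.ext ((congrArg (fun z : U.left => r.left z) he : r.left (mem w) = r.left q) : _))), mul_zero]
  · simp

theorem isIso_divA : IsIso (divA A) :=
  haveI := mono_divA (A := A)
  haveI := epi_divA (A := A)
  isIso_of_mono_of_epi _

end Groth.Agent.BrauerXFact
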