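import Groth.Agent.BrauerXFact.Prime
import Groth.Agent.EtFound.Germ
import Groth.Agent.BrauerXPic.Descent

/-!
# Local description of the quotient by `G_m`
-/

universe u

open CategoryTheory CategoryTheory.Limits AlgebraicGeometry Opposite TopologicalSpace

namespace Groth.Agent.BrauerXFact

open Groth.Agent.EtFound Groth.Agent.BrauerXCurve

set_option backward.isDefEq.respectTransparency.types false

section General

variable {X : Scheme.{u}}

/-- sections of a kernel -/
theorem sect_kernel {F G : EtCoh.Ab X} (φ : F ⟶ G) (T : X.Etale) :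
    Function.Injective ((kernel.ι φ).hom.app (op T)) ∧
      ∀ t : EtCoh.sect F T, φ.hom.app (op T) t = 0 → ∃ b, (kernel.ι φ).hom.app (op T) b = t := by
  let S : ShortComplex (EtCoh.Ab X) := ShortComplex.mk (kernel.ι φ) φ (kernel.condition φ)
  let secF := (sheafSections X.smallEtaleTopology AddCommGrpCat.{u + 1}).obj (op T)
  haveI : PreservesFiniteLimits secF :=
    haveI : PreservesFiniteLimits (sheafToPresheaf X.smallEtaleTopology AddCommGrpCat.{u + 1}) := inferInstance
    comp_preservesFiniteLimits (sheafToPresheaf X.smallEtaleTopology AddCommGrpCat.{u + 1})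
      ((evaluation _ _).obj (op T))
  haveI : secF.Additive := ⟨fun {F G f g} => rfl⟩
  haveI : Mono (S.map secF).f := inferInstanceAs (Mono (secF.map (kernel.ι φ)))
  have hex : (S.map secF).Exact :=
    ShortComplex.exact_of_f_is_kernel _ (isLimitForkMapOfIsLimit' secF (kernel.condition φ) (kernelIsKernel φ))
  exact ⟨(AddCommGrpCat.mono_iff_injective _).1 (inferInstanceAs (Mono (S.map secF).f)),
    fun t ht => (ShortComplex.ab_exact_iff _).1 hex t ht⟩

/-- a section which vanishes locally vanishes -/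
theorem eq_zero_of_local (F : EtCoh.Ab X) {W : X.Etale} (q : EtCoh.sect F W)
    (h : ∀ w : W.left, ∃ (U : X.Etale) (r : U ⟶ W) (u : U.left), F.obj.map r.op q = 0 ∧ r.left u = w) : q = 0 := by
  refine (((isSheaf_iff_isSheaf_of_type _ _).1
    ((sheafCompose X.smallEtaleTopology (forget AddCommGrpCat.{u + 1})).obj F).property).isSeparated
    (Presheaf.equalizerSieve (F := F.obj) q 0) ((mem_topology_iff _).2 fun w => ?_)).ext fun V g hg => hg
  obtain ⟨U, r, u, hq, hu⟩ := h w
  exact ⟨U, r, u, hq.trans (map_zero _).symm, hu⟩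

/-- an epimorphism is locally surjective on sections -/
theorem exists_local_lift {F G : EtCoh.Ab X} (φ : F ⟶ G) [Epi φ] {W : X.Etale} (q : EtCoh.sect G W) (w : W.left) :
    ∃ (U : X.Etale) (r : U ⟶ W) (u : U.left) (σ : EtCoh.sect F U),
      φ.hom.app (op U) σ = G.obj.map r.op q ∧ r.left u = w := by
  have h := (Sheaf.isLocallySurjective_iff_epi' (A := AddCommGrpCat.{u + 1}) φ).2 inferInstance
  obtain ⟨U, r, u, ⟨σ, hσ⟩, hu⟩ := (mem_topology_iff _).1 (h.1 q) w
  exact ⟨U, r, u, σ, hσ, hu⟩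

end General

variable {X : Scheme.{u}} [AlgebraicGeometry.IsNoetherian X] [FactEt X] {V W : X.Etale}

theorem uniqMax_restrict (hV : UniqMax V) (O : V.left.Opens) : UniqMax (restrictEtale V O) := fun p q hp hq =>
  Subtype.ext (hV _ _ (isMaxPt_restrict.1 hp) (isMaxPt_restrict.1 hq))

/-- a function pulled back to global sections -/
noncomputable def pullFun (r : W ⟶ V) {O : V.left.Opens} (hO : (⊤ : W.left.Opens) ≤ r.left ⁻¹ᵁ O)
    (g : Γ(V.left, O)) : Γ(W.left, ⊤) := r.left.appLE O ⊤ hO g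

omit [AlgebraicGeometry.IsNoetherian X] [FactEt X] in
theorem germ_pullFun (r : W ⟶ V) {O : V.left.Opens} (hO : (⊤ : W.left.Opens) ≤ r.left ⁻¹ᵁ O) (g : Γ(V.left, O))
    {q : W.left} {v : V.left} (h : r.left q ⤳ v) (hv : v ∈ O) :
    W.left.presheaf.germ ⊤ q trivial (pullFun r hO g) = phi r h (V.left.presheaf.germ O v hv g) := by
  rw [phi_germ r h hv g]
  exact TopCat.Presheaf.germ_res_apply W.left.presheaf (homOfLE hO) q trivial (r.left.app O g)

omit [FactEt X] in
/-- the projection to the quotient kills units -/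
theorem π_toMax (s : EtCoh.sect (EtCoh.Gm X) V) :
    (cokernel.π (toMax X)).hom.app (op V) ((toMax X).hom.app (op V) s) = 0 :=
  congrArg (fun m => m.hom.app (op V) s) (cokernel.condition (toMax X))

/-- a section without zeros and poles near a point is locally a unit -/
theorem exists_nhd_π_eq_zero (σ : EtCoh.sect (PS X) V) (v : V.left)
    (h : ∀ w : V.left, w ⤳ v → IsC1 w → ordAt V w σ = 0) :
    ∃ (U : X.Etale) (r : U ⟶ V) (u : U.left), r.left u = v ∧
      (QS X).obj.map r.op ((cokernel.π (toMax X)).hom.app (op V) σ) = 0 := by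
  obtain ⟨e, he⟩ := exists_unit_of_ord v σ h
  obtain ⟨O₁, hv₁, g, hg⟩ := TopCat.Presheaf.exists_germ_eq V.left.presheaf (x := v) (e : V.left.presheaf.stalk v)
  obtain ⟨O₀, hv₀, -, hU₀⟩ := exists_uniqMax_nhd V v
  have hvb : v ∈ V.left.basicOpen g := (Scheme.mem_basicOpen _ g v hv₁).2 (hg ▸ e.isUnit)
  let U₀ := restrictEtale V O₀
  let r₀ := restrictEtaleHom V O₀
  let O : U₀.left.Opens := r₀.left ⁻¹ᵁ V.left.basicOpen g
  let U := restrictEtale U₀ O
  let r : U ⟶ V := restrictEtaleHom U₀ O ≫ r₀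
  let u : U.left := ⟨⟨v, hv₀⟩, hvb⟩
  have hru : r.left u = v := rfl
  have hbas : ∀ q : U.left, r.left q ∈ V.left.basicOpen g := fun q => q.2
  have hO : (⊤ : U.left.Opens) ≤ r.left ⁻¹ᵁ O₁ := fun q _ => V.left.basicOpen_le g (hbas q)
  have hf : IsUnit (pullFun r hO g) := U.left.toRingedSpace.isUnit_of_isUnit_germ ⊤ _ fun q _ => by
    show IsUnit (U.left.presheaf.germ ⊤ q trivial (pullFun r hO g))
    rw [germ_pullFun r hO g (specializes_refl (r.left q)) (hO (x := q) trivial)]
    exact ((Scheme.mem_basicOpen _ g _ (hO (x := q) trivial)).1 (hbas q)).map _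
  refine ⟨U, r, u, hru, ?_⟩
  let s : EtCoh.sect (EtCoh.Gm X) U := gmSect hf.unit
  have hs : (PS X).obj.map r.op σ - (toMax X).hom.app (op U) s = 0 := by
    refine eq_zero_of_rho (uniqMax_restrict hU₀ O) u _ ?_
    rw [rho_sub, div_eq_one]
    refine Units.ext ?_
    rw [rho_map r (specializes_of_eq hru) σ, he, psi_algebraMap, rho_toMax, ← hg]
    exact congrArg _ (germ_pullFun r hO g (specializes_of_eq hru) hv₁).symm
  rw [← NatTrans.naturality_apply (cokernel.π (toMax X)).hom, sub_eq_zero.1 hs]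
  exact π_toMax s

/-- a function vanishing on the closure of one point of codimension one -/
theorem exists_local_fun {w v : V.left} (h : w ⤳ v) (hw : IsC1 w) :
    ∃ (O : V.left.Opens) (g : Γ(V.left, O)) (hv : v ∈ O),
      V.left.presheaf.germ O v hv g ≠ 0 ∧ Irreducible (V.left.presheaf.germ O w (h.mem_open O.isOpen hv) g) ∧
      ∀ (q : V.left) (hq : q ∈ O), ¬ w ⤳ q → IsUnit (V.left.presheaf.germ O q hq g) := by
  obtain ⟨p, hp, hI⟩ := exists_prime_of_isC1 h hw
  obtain ⟨O₁, hv₁, g, hg⟩ := TopCat.Presheaf.exists_germ_eq V.left.presheaf (x := v) p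
  obtain ⟨U, hU, hvU, hUO⟩ := exists_isAffineOpen_mem_and_subset hv₁
  haveI := isLocallyNoetherian_left V
  haveI : IsAffine U.toScheme := hU
  haveI : AlgebraicGeometry.IsNoetherian U.toScheme := {}
  let Z : Set U.toScheme := (U.ι ⁻¹' (V.left.basicOpen g : Set V.left))ᶜ
  have hZ : IsClosed Z := ((V.left.basicOpen g).isOpen.preimage U.ι.continuous).isClosed_compl
  obtain ⟨S, hfin, hcl, hirr, hS⟩ := NoetherianSpace.exists_finite_set_isClosed_irreducible hZ
  let C : Set U.toScheme := ⋃ T ∈ {T ∈ S | (⟨v, hvU⟩ : U.toScheme) ∉ T}, T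
  have hC : IsClosed C := (hfin.subset fun T hT => hT.1).isClosed_biUnion fun T hT => hcl T hT.1
  have hvC : (⟨v, hvU⟩ : U.toScheme) ∉ C := fun hm => by
    obtain ⟨T, hT, hvT⟩ := Set.mem_iUnion₂.1 hm
    exact hT.2 hvT
  let O : V.left.Opens := U.ι ''ᵁ ⟨Cᶜ, hC.isOpen_compl⟩
  have hvO : v ∈ O := ⟨⟨v, hvU⟩, hvC, rfl⟩
  have hOO : O ≤ O₁ := fun q ⟨a, _, ha⟩ => hUO (ha ▸ a.2)
  refine ⟨O, V.left.presheaf.map (homOfLE hOO).op g, hvO, ?_, ?_, fun q hq hwq => ?_⟩
  · rw [TopCat.Presheaf.germ_res_apply, hg]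
    exact hp.ne_zero
  · rw [TopCat.Presheaf.germ_res_apply]
    have e : spz h p = V.left.presheaf.germ O₁ w (h.mem_open O₁.isOpen hv₁) g := by
      rw [← hg, spz_germ]
    exact e ▸ irreducible_spz h hw hI
  · rw [TopCat.Presheaf.germ_res_apply]
    by_contra hu
    obtain ⟨a, haC, rfl⟩ := hq
    have haZ : a ∈ Z := fun hm => hu ((Scheme.mem_basicOpen _ g _ _).1 hm)
    rw [hS] at haZ
    obtain ⟨T, hT, haT⟩ := haZ
    have hvT : (⟨v, hvU⟩ : U.toScheme) ∈ T := by
      by_contra hn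
      exact haC (Set.mem_iUnion₂.2 ⟨T, ⟨hT, hn⟩, haT⟩)
    have hgen := (hirr T hT).isGenericPoint_genericPoint (hcl T hT)
    let η := (hirr T hT).genericPoint
    have hηv : U.ι η ⤳ v := (hgen.specializes hvT).map U.ι.continuous
    have hηZ : η ∈ Z := hS ▸ ⟨T, hT, hgen.mem⟩
    have hηO : U.ι η ∈ O₁ := hUO η.2
    have hpη : p ∈ (primeAt hηv).asIdeal := by
      rw [mem_primeAt, ← hg, spz_germ]
      exact fun hm => hηZ ((Scheme.mem_basicOpen _ g _ hηO).2 hm)
    have hle : (primeAt h).asIdeal ≤ (primeAt hηv).asIdeal := by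
      rw [hI, Ideal.span_singleton_le_iff_mem]
      exact hpη
    exact hwq (((primeAt_le_iff h hηv).1 hle).trans ((hgen.specializes haT).map U.ι.continuous))

end Groth.Agent.BrauerXFact
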