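import Groth.Agent.BrauerXFact.Iso
import Groth.Agent.BrauerXPoint.GmPush
import Groth.Agent.BrauerXCurve.PointH2

/-!
# `H^q(X, G_m)` of a scheme with factorial étale local rings seen at the maximal points
-/

universe u

open CategoryTheory CategoryTheory.Limits AlgebraicGeometry Opposite TopologicalSpace CategoryTheory.Abelian

namespace Groth.Agent.BrauerXFact

open Groth.Agent.EtFound Groth.Agent.BrauerXCurve Groth.Agent.EtSupp70

set_option backward.isDefEq.respectTransparency.types false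

theorem killedBy_biproduct {X : Scheme.{u}} (M : Submonoid ℕ) {ι : Type u} [Finite ι] (P : ι → EtCoh.Ab X) (q : ℕ)
    (h : ∀ a, KilledBy M (EtCoh.H X (P a) q)) : KilledBy M (EtCoh.H X (⨁ P) q) := fun (x : Ext (EtCoh.const X ℤ) (⨁ P) q) => by
  classical
  haveI := Fintype.ofFinite ι
  choose N hN hNa using fun a => h a (x.comp (Ext.mk₀ (biproduct.π P a)) (add_zero q))
  refine ⟨∏ a, N a, prod_mem fun a _ => hN a, ?_⟩
  change (∏ a, N a) • x = 0
  have hx : x = ∑ a, (x.comp (Ext.mk₀ (biproduct.π P a)) (add_zero q)).comp (Ext.mk₀ (biproduct.ι P a)) (add_zero q) := by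
    conv_lhs => rw [← Ext.comp_mk₀_id x, ← biprod_total P, Ext.mk₀_sum, Ext.comp_sum]
    refine Finset.sum_congr rfl fun a _ => ?_
    rw [Ext.comp_assoc_of_second_deg_zero, Ext.mk₀_comp_mk₀]
  rw [hx, Finset.smul_sum]
  refine Finset.sum_eq_zero fun a _ => ?_
  refine (map_nsmul (((Ext.mk₀ (biproduct.ι P a)).postcomp (EtCoh.const X ℤ)) (add_zero q)) (∏ b, N b) _).symm.trans ?_
  obtain ⟨d, hd⟩ := Finset.dvd_prod_of_mem N (Finset.mem_univ a)
  rw [hd, mul_comm, mul_smul, show N a • x.comp (Ext.mk₀ (biproduct.π P a)) (add_zero q) = 0 from hNa a, smul_zero, map_zero]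

variable (X : Scheme.{u}) [AlgebraicGeometry.IsNoetherian X] [FactEt X]

omit [FactEt X] in
/-- the quotient vanishes at the maximal points -/
theorem not_isMaxPt_of_mem_supp (y : X) (hy : y ∈ EtPBC.supp (QS X)) : ¬ IsMaxPt y := fun hm => by
  obtain ⟨Ω, _, _, ξ, rfl⟩ := exists_geomPoint y
  have := isIso_stalk_toMax ⟨_, hm⟩ ξ rfl
  refine (EtPBC63.mem_supp_iff ξ).1 hy ?_
  have : Epi ((EtCoh.stalk ξ).map (cokernel.π (toMax X))) :=
    (AddCommGrpCat.epi_iff_surjective _).2 ((epi_iff_stalks _).1 inferInstance Ω ξ)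
  refine IsZero.of_epi_eq_zero ((EtCoh.stalk ξ).map (cokernel.π (toMax X))) ?_
  rw [← cancel_epi ((EtCoh.stalk ξ).map (toMax X)), ← Functor.map_comp, cokernel.condition, Functor.map_zero, comp_zero]

variable {X}

theorem killedBy_H_QS (M : Submonoid ℕ) (q : ℕ)
    (h : ∀ y : X, KilledBy M (EtCoh.H X (DT y) q)) : KilledBy M (EtCoh.H X (QS X) q) := by
  obtain ⟨J, _, _, D, c, hc, ⟨e⟩, hD⟩ := exists_colimit_sub (QS X) MaxFree (fun x hx => absurd hx (Set.notMem_empty x))
    (fun A B hA hB x hx => hx.elim (hA x) (hB x))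
    (fun y hy x hx hm => not_isMaxPt_of_mem_supp X y hy (hm y (specializes_iff_mem_closure.2 hx) ▸ hm))
  refine killedBy_of_iso M e (killedBy_colimit M hc q fun j => ?_)
  obtain ⟨A, hA, ⟨eA⟩⟩ := hD j
  haveI := finite_TA hA
  haveI := isIso_divA (A := A)
  exact killedBy_of_iso M eA.symm (killedBy_of_iso M (asIso (divA A)).symm
    (killedBy_biproduct M _ q fun y => h y.1))

theorem subsingleton_H_one_DT (y : X) : Subsingleton (EtCoh.H X (DT y) 1) := by
  haveI := EtFound.pull_preservesFiniteLimits (resPt y)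
  exact BrauerXPoint.subsingleton_H_one_push (k := X.residueField y) (resPt y) _ (galH1Trivial_ptFun _)

theorem isAddTorsion_H_DT (y : X) (n : ℕ) : IsAddTorsion (EtCoh.H X (DT y) (n + 1)) :=
  have : CompactSpace (Spec (X.residueField y)) := inferInstance
  BrauerXPoint.isAddTorsion_H_push (k := X.residueField y) (X.fromSpecResidueField y) _ n

/-- classes killed at the maximal points -/
theorem exists_kill_max (M : Submonoid ℕ) (r : ℕ) (h : ∀ y : X, KilledBy M (EtCoh.H X (DT y) r))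
    (ξ : EtCoh.H X (EtCoh.Gm X) (r + 1))
    (hξ : ∀ x : MaxPts X, ∃ N ∈ M, N • ((EtCoh.HF X (r + 1)).map (EtLim.GmPush (X.fromSpecStalk x.1)) ξ) = 0) :
    ∃ N ∈ M, N • ξ = 0 := by
  haveI := mono_toMax (X := X)
  refine exists_kill M (fun x : MaxPts X => EtLim.GmPush (X.fromSpecStalk x.1)) r ?_ (killedBy_H_QS M r h) ξ hξ
  have h0 := subsingleton_H_of_isZero (F := kernel (toMax X))
    (IsZero.of_mono_eq_zero (kernel.ι (toMax X)) (kernel.ι_of_mono _)) (r + 1)
  exact @killedBy_of_subsingleton M (EtCoh.H X (kernel (toMax X)) (r + 1)) _ h0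

omit [AlgebraicGeometry.IsNoetherian X] in
theorem isField_stalk_max (x : MaxPts X) : IsField (X.presheaf.stalk x.1) := by
  haveI : IsReduced X := @isReduced_of_isReduced_stalk X fun z =>
    haveI : IsDomain (X.presheaf.stalk z) := isDomain_stalk (EtCoh.top X) z
    inferInstance
  exact isField_stalk x.1 x.2

theorem eq_zero_of_max [∀ x : X, PreservesFiniteLimits (EtCoh.pull (X.fromSpecStalk x))]
    (ξ : EtCoh.H X (EtCoh.Gm X) 2) (hξ : ∀ x : X, (∀ y : X, y ⤳ x → y = x) → EtLim.HGmPull (X.fromSpecStalk x) 2 ξ = 0) :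
    ξ = 0 := by
  obtain ⟨N, hN, h⟩ := exists_kill_max (⊥ : Submonoid ℕ) 1 (fun y => killedBy_bot_iff.2 (subsingleton_H_one_DT y)) ξ
    fun x => ⟨1, one_mem _, by
      haveI : Subsingleton (PrimeSpectrum (X.presheaf.stalk x.1)) := subsingleton_specStalk x.1 x.2
      haveI hH : HenselianLocalRing (X.presheaf.stalk x.1) :=
        henselianLocalRing_of_subsingleton (X.presheaf.stalk x.1)
      rw [one_smul]
      refine @BrauerXCurve.hofPush_Gm_injective_two (X.presheaf.stalk x.1) _ hH _ X (X.fromSpecStalk x.1) _ _ _ _ ?_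
      exact (hξ x.1 x.2).trans (map_zero (EtLim.HofPush (X.fromSpecStalk x.1)
        (EtCoh.Gm (Spec (CommRingCat.of (X.presheaf.stalk x.1)))) 2)).symm⟩
  rw [Submonoid.mem_bot.1 hN, one_smul] at h
  exact h

theorem isAddTorsion_H_Gm (r : ℕ) : IsAddTorsion (EtCoh.H X (EtCoh.Gm X) (r + 2)) := fun ξ => by
  obtain ⟨N, hN, hξ⟩ := exists_kill_max (nonZeroDivisors ℕ) (r + 1)
    (fun y => killedBy_pos_iff.2 (isAddTorsion_H_DT y r)) ξ fun x => killedBy_pos_iff.2 (by
      let := (isField_stalk_max x).toField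
      have : QuasiCompact (X.fromSpecStalk x.1) := inferInstance
      exact BrauerXPoint.isAddTorsion_H_push (k := X.presheaf.stalk x.1) (X.fromSpecStalk x.1) _ (r + 1)) _
  exact isOfFinAddOrder_iff_nsmul_eq_zero.2 ⟨N, Nat.pos_of_ne_zero (nonZeroDivisors.ne_zero hN), hξ⟩

end Groth.Agent.BrauerXFact
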