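import Groth.Agent.BrauerXCurve.Dim1
import Mathlib.RingTheory.DiscreteValuationRing.Basic
import Mathlib.RingTheory.Unramified.LocalRing
import Mathlib.AlgebraicGeometry.Morphisms.FormallyUnramified

/-!
# Points of étale schemes over a scheme with factorial étale local rings
-/

universe u

open CategoryTheory CategoryTheory.Limits AlgebraicGeometry Opposite TopologicalSpace

namespace Groth.Agent.BrauerXFact

open Groth.Agent.EtFound

set_option backward.isDefEq.respectTransparency.types false

/-- all local rings of all étale schemes over `X` are factorial domains -/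
class FactEt (X : Scheme.{u}) : Prop where
  out : ∀ (U : X.Etale) (v : U.left), IsDomain (U.left.presheaf.stalk v) ∧
    UniqueFactorizationMonoid (U.left.presheaf.stalk v)

instance isDomain_stalk {X : Scheme.{u}} [h : FactEt X] (U : X.Etale) (v : U.left) :
    IsDomain (U.left.presheaf.stalk v) := (h.out U v).1

instance ufd_stalk {X : Scheme.{u}} [h : FactEt X] (U : X.Etale) (v : U.left) :
    UniqueFactorizationMonoid (U.left.presheaf.stalk v) := (h.out U v).2

/-- maximal points -/
def IsMaxPt {Y : Scheme.{u}} (p : Y) : Prop := ∀ q : Y, q ⤳ p → q = p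

variable {X : Scheme.{u}} {V W : X.Etale}

instance flat_hom (V : X.Etale) : Flat V.hom :=
  haveI : AlgebraicGeometry.Etale V.hom := V.prop
  inferInstance

/-- specializations inside a fibre are trivial -/
theorem eq_of_specializes {p q : V.left} (h : q ⤳ p) (he : V.hom q = V.hom p) : q = p := by
  haveI : AlgebraicGeometry.Etale V.hom := V.prop
  haveI := EtShriekLib.locallyQuasiFinite_of_etale V.hom
  have hd := V.hom.isDiscrete_preimage_singleton (V.hom p)
  let S : Set V.left := V.hom ⁻¹' {V.hom p}
  haveI : DiscreteTopology S := isDiscrete_iff_discreteTopology.1 hd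
  have h' : (⟨q, he⟩ : S) ⤳ ⟨p, rfl⟩ := (subtype_specializes_iff _ _).2 h
  exact congrArg Subtype.val h'.eq

/-- a point is maximal iff its image is -/
theorem isMaxPt_iff {p : V.left} : IsMaxPt (V.hom p) ↔ IsMaxPt p := by
  refine ⟨fun h q hq => eq_of_specializes hq (h _ (hq.map V.hom.continuous)), fun h y hy => ?_⟩
  obtain ⟨q, hq, rfl⟩ := Flat.generalizingMap V.hom hy
  rw [h q hq]

/-- images of maximal points are maximal -/
theorem isMaxPt_map (r : W ⟶ V) {p : W.left} (h : IsMaxPt p) : IsMaxPt (r.left p) := by
  rw [← isMaxPt_iff (V := V), apply_hom r p]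
  exact isMaxPt_iff.2 h

section Generic

variable [FactEt X] (V) (v : V.left)

/-- the generic point of the local ring -/
noncomputable def gpt : V.left :=
  V.left.fromSpecStalk v (⟨⊥, Ideal.isPrime_bot⟩ : PrimeSpectrum (V.left.presheaf.stalk v))

theorem gpt_specializes : gpt V v ⤳ v := by
  have h : gpt V v ∈ Set.range (V.left.fromSpecStalk v) := ⟨_, rfl⟩
  rwa [Scheme.range_fromSpecStalk] at h

theorem isMaxPt_gpt : IsMaxPt (gpt V v) := fun q hq => by
  obtain ⟨a, rfl⟩ : q ∈ Set.range (V.left.fromSpecStalk v) := by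
    rw [Scheme.range_fromSpecStalk]
    exact hq.trans (gpt_specializes V v)
  have h := (V.left.fromSpecStalk v).isEmbedding.isInducing.specializes_iff.1 hq
  have hle : (a : PrimeSpectrum (V.left.presheaf.stalk v)).asIdeal ≤ ⊥ :=
    (PrimeSpectrum.le_iff_specializes (a : PrimeSpectrum (V.left.presheaf.stalk v))
      ⟨⊥, Ideal.isPrime_bot⟩).2 h
  exact congrArg (V.left.fromSpecStalk v) (PrimeSpectrum.ext (le_bot_iff.1 hle))

/-- the generic point is the only maximal point generalizing `v` -/
theorem eq_gpt {p : V.left} (hp : p ⤳ v) (hm : IsMaxPt p) : p = gpt V v := by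
  obtain ⟨a, rfl⟩ : p ∈ Set.range (V.left.fromSpecStalk v) := by rwa [Scheme.range_fromSpecStalk]
  refine (hm _ (Specializes.map ?_ (V.left.fromSpecStalk v).continuous)).symm
  exact (PrimeSpectrum.le_iff_specializes _ (a : PrimeSpectrum (V.left.presheaf.stalk v))).1 bot_le

end Generic

section Map

/-- the map of local rings given by a morphism and a specialization -/
noncomputable def phi (r : W ⟶ V) {w : W.left} {v : V.left} (h : r.left w ⤳ v) :
    (V.left.presheaf.stalk v : Type u) →+* (W.left.presheaf.stalk w : Type u) :=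
  (V.left.presheaf.stalkSpecializes h ≫ Scheme.Hom.stalkMap r.left w).hom

theorem specMap_phi (r : W ⟶ V) {w : W.left} {v : V.left} (h : r.left w ⤳ v) :
    Spec.map (CommRingCat.ofHom (phi r h)) ≫ V.left.fromSpecStalk v = W.left.fromSpecStalk w ≫ r.left := by
  show Spec.map (V.left.presheaf.stalkSpecializes h ≫ Scheme.Hom.stalkMap r.left w) ≫ _ = _
  rw [Spec.map_comp, Category.assoc, Scheme.SpecMap_stalkSpecializes_fromSpecStalk h]
  exact Scheme.SpecMap_stalkMap_fromSpecStalk r.left

theorem phi_germ (r : W ⟶ V) {w : W.left} {v : V.left} (h : r.left w ⤳ v) {U : V.left.Opens} (hv : v ∈ U)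
    (s : Γ(V.left, U)) :
    phi r h (V.left.presheaf.germ U v hv s) =
      W.left.presheaf.germ (r.left ⁻¹ᵁ U) w (h.mem_open U.isOpen hv) (r.left.app U s) := by
  refine (congrArg (Scheme.Hom.stalkMap r.left w).hom
    (TopCat.Presheaf.germ_stalkSpecializes_apply (F := V.left.presheaf) (hy := hv) h s)).trans ?_
  exact Scheme.Hom.germ_stalkMap_apply r.left U w (h.mem_open U.isOpen hv) s

variable [FactEt X]

theorem phi_injective (r : W ⟶ V) {w : W.left} {v : V.left} (h : r.left w ⤳ v) :
    Function.Injective (phi r h) := by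
  rw [RingHom.injective_iff_ker_eq_bot]
  let P : PrimeSpectrum (V.left.presheaf.stalk v) :=
    PrimeSpectrum.comap (phi r h) ⟨⊥, Ideal.isPrime_bot⟩
  have hP : V.left.fromSpecStalk v P = r.left (gpt W w) := by
    have := congrArg (fun f : Spec (W.left.presheaf.stalk w) ⟶ V.left =>
      f (⟨⊥, Ideal.isPrime_bot⟩ : PrimeSpectrum (W.left.presheaf.stalk w))) (specMap_phi r h)
    exact this
  have hr : r.left (gpt W w) = gpt V v := by
    refine eq_gpt V v ?_ (isMaxPt_map r (isMaxPt_gpt W w))
    exact ((gpt_specializes W w).map r.left.continuous).trans h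
  have hbot : P = ⟨⊥, Ideal.isPrime_bot⟩ := (V.left.fromSpecStalk v).isEmbedding.injective (hP.trans hr)
  exact congrArg PrimeSpectrum.asIdeal hbot

end Map

/-- points of codimension one -/
def IsC1 {Y : Scheme.{u}} (y : Y) : Prop := ¬ IsMaxPt y ∧ ∀ z : Y, z ⤳ y → z ≠ y → IsMaxPt z

theorem isC1_generalizations {p : V.left} (hy : IsC1 (V.hom p)) : IsC1 p := by
  refine ⟨fun h => hy.1 (isMaxPt_iff.2 h), fun z hz hne => isMaxPt_iff.1 (hy.2 _ (hz.map V.hom.continuous) ?_)⟩
  exact fun he => hne (eq_of_specializes hz he)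

section DVR

variable [FactEt X]

/-- local rings at points of codimension one are discrete valuation rings -/
theorem isDVR {p : V.left} (hp : IsC1 p) : IsDiscreteValuationRing (V.left.presheaf.stalk p) := by
  let R := (V.left.presheaf.stalk p : Type u)
  have hmax : ∀ q : PrimeSpectrum R, q.asIdeal ≠ ⊥ → q.asIdeal = IsLocalRing.maximalIdeal R := fun q hq => by
    by_contra hne
    have hs : V.left.fromSpecStalk p q ⤳ p := by
      have h : V.left.fromSpecStalk p q ∈ Set.range (V.left.fromSpecStalk p) := ⟨q, rfl⟩
      rwa [Scheme.range_fromSpecStalk] at h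
    have hne' : V.left.fromSpecStalk p q ≠ p := fun he => hne (congrArg PrimeSpectrum.asIdeal
      ((V.left.fromSpecStalk p).isEmbedding.injective (he.trans Scheme.fromSpecStalk_closedPoint.symm)))
    have h1 := eq_gpt V p hs (hp.2 _ hs hne')
    exact hq (congrArg PrimeSpectrum.asIdeal ((V.left.fromSpecStalk p).isEmbedding.injective h1))
  refine IsDiscreteValuationRing.of_ufd_of_unique_irreducible ?_ fun a b ha hb => ?_
  · have hne : IsLocalRing.maximalIdeal R ≠ ⊥ := fun h0 => hp.1 fun z hz => by
      obtain ⟨a, rfl⟩ : z ∈ Set.range (V.left.fromSpecStalk p) := by rwa [Scheme.range_fromSpecStalk]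
      have ha' : (a : PrimeSpectrum R) = IsLocalRing.closedPoint R :=
        PrimeSpectrum.ext (le_antisymm (IsLocalRing.le_maximalIdeal (a : PrimeSpectrum R).isPrime.ne_top)
          (h0.le.trans bot_le))
      exact (congrArg (V.left.fromSpecStalk p) ha').trans Scheme.fromSpecStalk_closedPoint
    obtain ⟨x, hx, hx'⟩ := (IsLocalRing.maximalIdeal.isMaximal R).isPrime.exists_mem_prime_of_ne_bot hne
    exact ⟨x, hx'.irreducible⟩
  · have key : ∀ c : R, Irreducible c → Ideal.span {c} = IsLocalRing.maximalIdeal R := fun c hc => by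
      have hcp := UniqueFactorizationMonoid.irreducible_iff_prime.1 hc
      exact hmax ⟨_, (Ideal.span_singleton_prime hc.ne_zero).2 hcp⟩ (by simpa using hc.ne_zero)
    exact Ideal.span_singleton_eq_span_singleton.1 ((key a ha).trans (key b hb).symm)

/-- a uniformizer stays a uniformizer -/
theorem irreducible_phi (r : W ⟶ V) (w : W.left) (hw : IsC1 w) (hv : IsC1 (r.left w))
    {ϖ : (V.left.presheaf.stalk (r.left w) : Type u)} (hϖ : Irreducible ϖ) :
    Irreducible (phi r (specializes_refl (r.left w)) ϖ) := by
  haveI := isDVR hw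
  haveI := isDVR hv
  haveI : AlgebraicGeometry.Etale r.left := EtFound.etale_left r
  algebraize [(Scheme.Hom.stalkMap r.left w).hom]
  haveI : IsLocalHom (algebraMap (V.left.presheaf.stalk (r.left w)) (W.left.presheaf.stalk w)) :=
    inferInstanceAs (IsLocalHom (Scheme.Hom.stalkMap r.left w).hom)
  haveI : Algebra.EssFiniteType (V.left.presheaf.stalk (r.left w)) (W.left.presheaf.stalk w) := by
    rw [← RingHom.essFiniteType_algebraMap, RingHom.algebraMap_toAlgebra]
    exact LocallyOfFiniteType.stalkMap r.left w
  haveI : Algebra.FormallyUnramified (V.left.presheaf.stalk (r.left w)) (W.left.presheaf.stalk w) := by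
    rw [← RingHom.formallyUnramified_algebraMap, RingHom.algebraMap_toAlgebra]
    exact FormallyUnramified.stalkMap r.left w
  have h1 := Algebra.FormallyUnramified.map_maximalIdeal (R := V.left.presheaf.stalk (r.left w))
    (S := W.left.presheaf.stalk w)
  rw [(IsDiscreteValuationRing.irreducible_iff_uniformizer ϖ).1 hϖ, Ideal.map_span, Set.image_singleton] at h1
  refine (IsDiscreteValuationRing.irreducible_iff_uniformizer _).2 (h1.symm.trans ?_)
  rw [show phi r (specializes_refl (r.left w)) = (Scheme.Hom.stalkMap r.left w).hom from by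
    rw [phi, TopCat.Presheaf.stalkSpecializes_refl, Category.id_comp]]
  rfl

end DVR

end Groth.Agent.BrauerXFact
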