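import Groth.Agent.BrauerXFact.Div

/-!
# Points of codimension one and prime elements of the local rings
-/

universe u

open CategoryTheory CategoryTheory.Limits AlgebraicGeometry Opposite TopologicalSpace

namespace Groth.Agent.BrauerXFact

open Groth.Agent.EtFound Groth.Agent.BrauerXCurve

set_option backward.isDefEq.respectTransparency.types false

variable {X : Scheme.{u}} [FactEt X] {V W : X.Etale}

omit [FactEt X] in
theorem isC1_hom {w : V.left} (h : IsC1 w) : IsC1 (V.hom w) := by
  refine ⟨fun hm => h.1 (isMaxPt_iff.1 hm), fun z hz hne => ?_⟩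
  obtain ⟨q, hq, rfl⟩ := Flat.generalizingMap V.hom hz
  exact isMaxPt_iff.2 (h.2 q hq fun he => hne (by rw [he]))

omit [FactEt X] in
theorem isC1_map (r : W ⟶ V) {w : W.left} (h : IsC1 w) : IsC1 (r.left w) :=
  isC1_generalizations (by rw [apply_hom r w]; exact isC1_hom h)

omit [FactEt X] in
theorem eq_of_isC1_specializes {a b : V.left} (ha : IsC1 a) (hb : IsC1 b) (h : a ⤳ b) : a = b :=
  by_contra fun hne => ha.1 (hb.2 a h hne)

variable {v w : V.left}

/-- the map of local rings given by a specialization -/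
noncomputable def spz (h : w ⤳ v) : (V.left.presheaf.stalk v : Type u) →+* (V.left.presheaf.stalk w : Type u) :=
  phi (𝟙 V) (w := w) (v := v) h

omit [FactEt X] in
theorem spz_germ (h : w ⤳ v) {U : V.left.Opens} (hv : v ∈ U) (s : Γ(V.left, U)) :
    spz h (V.left.presheaf.germ U v hv s) = V.left.presheaf.germ U w (h.mem_open U.isOpen hv) s :=
  phi_germ (𝟙 V) (w := w) h hv s

/-- the prime of the local ring given by a generalization -/
noncomputable def primeAt (h : w ⤳ v) : PrimeSpectrum (V.left.presheaf.stalk v) :=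
  PrimeSpectrum.comap (spz h) (IsLocalRing.closedPoint (V.left.presheaf.stalk w))

omit [FactEt X] in
theorem mem_primeAt (h : w ⤳ v) (x : V.left.presheaf.stalk v) :
    x ∈ (primeAt h).asIdeal ↔ ¬ IsUnit (spz h x) := Iff.rfl

omit [FactEt X] in
theorem fromSpecStalk_primeAt (h : w ⤳ v) : V.left.fromSpecStalk v (primeAt h) = w := by
  have e := congrArg (fun f : Spec (V.left.presheaf.stalk w) ⟶ V.left =>
    f (IsLocalRing.closedPoint (V.left.presheaf.stalk w))) (specMap_phi (𝟙 V) (w := w) (v := v) h)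
  exact e.trans Scheme.fromSpecStalk_closedPoint

omit [FactEt X] in
theorem exists_primeAt (P : PrimeSpectrum (V.left.presheaf.stalk v)) :
    ∃ (w : V.left) (h : w ⤳ v), primeAt h = P := by
  have h : V.left.fromSpecStalk v P ∈ Set.range (V.left.fromSpecStalk v) := ⟨P, rfl⟩
  rw [Scheme.range_fromSpecStalk] at h
  exact ⟨_, h, (V.left.fromSpecStalk v).isEmbedding.injective (fromSpecStalk_primeAt h)⟩

omit [FactEt X] in
theorem primeAt_le_iff {a b : V.left} (ha : a ⤳ v) (hb : b ⤳ v) :
    (primeAt ha).asIdeal ≤ (primeAt hb).asIdeal ↔ a ⤳ b := by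
  refine ((PrimeSpectrum.le_iff_specializes (primeAt ha) (primeAt hb))).trans ?_
  refine (V.left.fromSpecStalk v).isEmbedding.isInducing.specializes_iff.symm.trans ?_
  rw [fromSpecStalk_primeAt, fromSpecStalk_primeAt]

theorem primeAt_eq_bot_iff (h : w ⤳ v) : (primeAt h).asIdeal = ⊥ ↔ IsMaxPt w := by
  refine ⟨fun h0 => ?_, fun hm => ?_⟩
  · have e : w = gpt V v := (fromSpecStalk_primeAt h).symm.trans
      (congrArg (V.left.fromSpecStalk v) (PrimeSpectrum.ext h0))
    rw [e]
    exact isMaxPt_gpt V v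
  · have e : V.left.fromSpecStalk v (primeAt h) = gpt V v := (fromSpecStalk_primeAt h).trans (eq_gpt V v h hm)
    exact congrArg PrimeSpectrum.asIdeal ((V.left.fromSpecStalk v).isEmbedding.injective e)

/-- the prime of a point of codimension one is principal -/
theorem exists_prime_of_isC1 (h : w ⤳ v) (hw : IsC1 w) :
    ∃ p, Prime p ∧ (primeAt h).asIdeal = Ideal.span {p} := by
  obtain ⟨p, hp, hp'⟩ := (primeAt h).isPrime.exists_mem_prime_of_ne_bot fun h0 => hw.1 ((primeAt_eq_bot_iff h).1 h0)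
  refine ⟨p, hp', ?_⟩
  obtain ⟨z, hz, hzQ⟩ := exists_primeAt (V := V) (v := v) ⟨Ideal.span {p}, (Ideal.span_singleton_prime hp'.ne_zero).2 hp'⟩
  have hQ : (primeAt hz).asIdeal = Ideal.span {p} := congrArg PrimeSpectrum.asIdeal hzQ
  have hzw : z ⤳ w := (primeAt_le_iff hz h).1 (by rw [hQ, Ideal.span_singleton_le_iff_mem]; exact hp)
  rcases eq_or_ne z w with rfl | hne
  · exact hQ
  · have := (primeAt_eq_bot_iff hz).2 (hw.2 z hzw hne)
    rw [hQ, Ideal.span_singleton_eq_bot] at this
    exact absurd this hp'.ne_zero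

/-- a prime element gives a point of codimension one -/
theorem exists_isC1_of_prime {p : V.left.presheaf.stalk v} (hp : Prime p) :
    ∃ (w : V.left) (h : w ⤳ v), IsC1 w ∧ (primeAt h).asIdeal = Ideal.span {p} := by
  obtain ⟨w, h, hP⟩ := exists_primeAt (V := V) (v := v) ⟨Ideal.span {p}, (Ideal.span_singleton_prime hp.ne_zero).2 hp⟩
  have hI : (primeAt h).asIdeal = Ideal.span {p} := congrArg PrimeSpectrum.asIdeal hP
  refine ⟨w, h, ⟨fun hm => ?_, fun z hz hne => ?_⟩, hI⟩
  · have := (primeAt_eq_bot_iff h).2 hm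
    rw [hI, Ideal.span_singleton_eq_bot] at this
    exact hp.ne_zero this
  · refine (primeAt_eq_bot_iff (hz.trans h)).1 (by_contra fun hne0 => hne ?_)
    obtain ⟨q, hq, hq'⟩ := (primeAt (hz.trans h)).isPrime.exists_mem_prime_of_ne_bot hne0
    have hle := (primeAt_le_iff (hz.trans h) h).2 hz
    have hqp : q ∈ Ideal.span {p} := hI ▸ hle hq
    have ha := hp.irreducible.associated_of_dvd hq'.irreducible (Ideal.mem_span_singleton.1 hqp)
    have hge : (primeAt h).asIdeal ≤ (primeAt (hz.trans h)).asIdeal := by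
      rw [hI, Ideal.span_singleton_eq_span_singleton.2 ha, Ideal.span_singleton_le_iff_mem]
      exact hq
    have e : primeAt (hz.trans h) = primeAt h := PrimeSpectrum.ext (le_antisymm hle hge)
    exact (fromSpecStalk_primeAt (hz.trans h)).symm.trans ((congrArg (V.left.fromSpecStalk v) e).trans
      (fromSpecStalk_primeAt h))

omit [FactEt X] in
theorem exists_frac (h : w ⤳ v) (c : V.left.presheaf.stalk w) :
    ∃ a b, IsUnit (spz h b) ∧ c * spz h b = spz h a := by
  obtain ⟨U, hU, hvU, -⟩ := exists_isAffineOpen_mem_and_subset (Set.mem_univ v) (U := (⊤ : V.left.Opens))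
  have hwU : w ∈ U := h.mem_open U.isOpen hvU
  letI := TopCat.Presheaf.algebra_section_stalk V.left.presheaf (⟨w, hwU⟩ : U)
  haveI := hU.isLocalization_stalk ⟨w, hwU⟩
  obtain ⟨⟨a, s⟩, e⟩ := IsLocalization.surj (hU.primeIdealOf ⟨w, hwU⟩).asIdeal.primeCompl c
  refine ⟨V.left.presheaf.germ U v hvU a, V.left.presheaf.germ U v hvU s.1, ?_, ?_⟩
  · rw [spz_germ]
    exact IsLocalization.map_units (V.left.presheaf.stalk w) s
  · rw [spz_germ, spz_germ]
    exact e

/-- the generator of the prime is a uniformizer -/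
theorem irreducible_spz (h : w ⤳ v) (hw : IsC1 w) {p : V.left.presheaf.stalk v}
    (hp : (primeAt h).asIdeal = Ideal.span {p}) : Irreducible (spz h p) := by
  haveI := isDVR hw
  refine (IsDiscreteValuationRing.irreducible_iff_uniformizer _).2 (le_antisymm ?_ ?_)
  · intro c hc
    obtain ⟨a, b, hb, e⟩ := exists_frac h c
    have ha : a ∈ (primeAt h).asIdeal := by
      rw [mem_primeAt]
      intro hu
      rw [← e] at hu
      exact (IsLocalRing.mem_maximalIdeal c).1 hc (isUnit_of_mul_isUnit_left hu)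
    rw [hp, Ideal.mem_span_singleton] at ha
    obtain ⟨r, rfl⟩ := ha
    rw [Ideal.mem_span_singleton]
    exact ⟨spz h r * ↑hb.unit⁻¹, by rw [← mul_assoc, ← map_mul, ← e, mul_assoc, IsUnit.mul_val_inv, mul_one]⟩
  · rw [Ideal.span_singleton_le_iff_mem, IsLocalRing.mem_maximalIdeal]
    exact (mem_primeAt h p).1 (hp ▸ Ideal.mem_span_singleton_self p)

section Sections

variable [AlgebraicGeometry.IsNoetherian X]

theorem ordAt_unit {w : V.left} (σ : EtCoh.sect (PS X) V) {c : V.left.presheaf.stalk w}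
    (hc : IsUnit c) (h : (rho V w σ : K V w) = algebraMap _ _ c) : ordAt V w σ = 0 := by
  by_cases hw : IsC1 w
  · exact (ordAt_eq_zero_iff hw σ).2 ⟨hc.unit, h⟩
  · unfold ordAt
    rw [dif_neg hw]

theorem ordAt_irreducible {w : V.left} (hw : IsC1 w) (σ : EtCoh.sect (PS X) V) {c : V.left.presheaf.stalk w}
    (hc : Irreducible c) (h : (rho V w σ : K V w) = algebraMap _ _ c) : ordAt V w σ = 1 := by
  haveI := isDVR hw
  rw [ordAt_eq hw]
  exact ord_eq hc 1 (by rw [h, zpow_one, Units.val_one, map_one, mul_one])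

/-- the order as a homomorphism -/
noncomputable def ordHom (V : X.Etale) (w : V.left) : EtCoh.sect (PS X) V →+ ℤ :=
  AddMonoidHom.mk' (ordAt V w) (ordAt_add w)

theorem rho_spz (h : w ⤳ v) (σ : EtCoh.sect (PS X) V) :
    (rho V w σ : K V w) = psi (𝟙 V) (w := w) h (rho V v σ : K V v) := by
  refine Eq.trans ?_ (rho_map (𝟙 V) (w := w) h σ)
  rw [op_id, CategoryTheory.Functor.map_id]
  rfl

/-- a section without zeros or poles in codimension one near a point is a unit there -/
theorem exists_unit_of_ord (v : V.left) (σ : EtCoh.sect (PS X) V)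
    (h : ∀ w : V.left, w ⤳ v → IsC1 w → ordAt V w σ = 0) :
    ∃ e : (V.left.presheaf.stalk v)ˣ, (rho V v σ : K V v) = algebraMap _ _ (e : V.left.presheaf.stalk v) := by
  obtain ⟨a, b, hab, hf⟩ := IsFractionRing.exists_reduced_fraction (A := V.left.presheaf.stalk v) (rho V v σ : K V v)
  have hb0 : (b : V.left.presheaf.stalk v) ≠ 0 := nonZeroDivisors.ne_zero b.2
  have hf' : (rho V v σ : K V v) * algebraMap _ _ (b : V.left.presheaf.stalk v) = algebraMap _ _ a := by
    rw [← hf]
    exact IsLocalization.mk'_spec _ _ _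
  have ha0 : a ≠ 0 := fun h0 => by
    rw [h0, map_zero, mul_eq_zero] at hf'
    exact hf'.elim (rho V v σ).ne_zero (fun hz => hb0 ((map_eq_zero_iff _ (IsFractionRing.injective _ _)).1 hz))
  have key : ∀ p, Prime p → (p ∣ a ↔ p ∣ (b : V.left.presheaf.stalk v)) := fun p hp => by
    obtain ⟨w, hwv, hw, hI⟩ := exists_isC1_of_prime hp
    obtain ⟨e, he⟩ := (ordAt_eq_zero_iff hw σ).1 (h w hwv hw)
    have h1 := congrArg (psi (𝟙 V) (w := w) hwv) hf'
    rw [map_mul, ← rho_spz hwv σ, he, psi_algebraMap, psi_algebraMap, ← map_mul] at h1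
    have h2 : (e : V.left.presheaf.stalk w) * spz hwv b = spz hwv a := IsFractionRing.injective _ _ h1
    have h3 : IsUnit (spz hwv a) ↔ IsUnit (spz hwv (b : V.left.presheaf.stalk v)) := by
      rw [← h2]
      exact Units.isUnit_units_mul e _
    rw [← Ideal.mem_span_singleton, ← Ideal.mem_span_singleton, ← hI, mem_primeAt, mem_primeAt, h3]
  have hnone : ∀ x : V.left.presheaf.stalk v, x ≠ 0 → (∀ p, Prime p → ¬ p ∣ x) → IsUnit x := fun x hx0 hx => by
    by_contra hu
    obtain ⟨p, hp, hpx⟩ := WfDvdMonoid.exists_irreducible_factor hu hx0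
    exact hx p (UniqueFactorizationMonoid.irreducible_iff_prime.1 hp) hpx
  have ha : IsUnit a := hnone a ha0 fun p hp hd => hp.not_isUnit (hab hd ((key p hp).1 hd))
  have hb : IsUnit (b : V.left.presheaf.stalk v) := hnone _ hb0 fun p hp hd => hp.not_isUnit (hab ((key p hp).2 hd) hd)
  refine ⟨ha.unit * hb.unit⁻¹, ?_⟩
  refine mul_right_cancel₀ ((map_ne_zero_iff _ (IsFractionRing.injective _ (K V v))).2 hb0) ?_
  rw [hf', ← map_mul, Units.val_mul, mul_assoc, IsUnit.val_inv_mul, mul_one]
  rfl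

end Sections

end Groth.Agent.BrauerXFact
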