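import Groth.Agent.BrauerXFact.Points
import Groth.Agent.BrauerXPic.Open

/-!
# Rational functions given by the sections of the sheaf of meromorphic units
-/

universe u

open CategoryTheory CategoryTheory.Limits AlgebraicGeometry Opposite TopologicalSpace

namespace Groth.Agent.BrauerXFact

open Groth.Agent.EtFound Groth.Agent.BrauerXCurve

set_option backward.isDefEq.respectTransparency.types false

variable {X : Scheme.{u}} [AlgebraicGeometry.IsNoetherian X] {V W : X.Etale}

/-- the sheaf `⊕ j_{x*} G_m` over the maximal points -/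
noncomputable abbrev PS (X : Scheme.{u}) [AlgebraicGeometry.IsNoetherian X] : EtCoh.Ab X := ⨁ (comp X)

/-- the part of `V` over a maximal point -/
noncomputable abbrev fib (V : X.Etale) (x : MaxPts X) : (Spec (X.presheaf.stalk x.1)).Etale :=
  (EtCoh.bc (X.fromSpecStalk x.1)).obj V

/-- its projection -/
noncomputable abbrev fstM (V : X.Etale) (x : MaxPts X) : (fib V x).left ⟶ V.left :=
  pullback.fst V.hom (X.fromSpecStalk x.1)

/-- the component of a section -/
noncomputable def compU (x : MaxPts X) (σ : EtCoh.sect (PS X) V) : Γ((fib V x).left, ⊤)ˣ :=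
  gmFun (X := Spec (X.presheaf.stalk x.1)) (V := fib V x) ((biproduct.π (comp X) x).hom.app (op V) σ)

theorem compU_add (x : MaxPts X) (σ τ : EtCoh.sect (PS X) V) : compU x (σ + τ) = compU x σ * compU x τ := by
  unfold compU
  rw [map_add]
  rfl

theorem compU_map (x : MaxPts X) (r : W ⟶ V) (σ : EtCoh.sect (PS X) V) :
    (compU x ((PS X).obj.map r.op σ) : Γ((fib W x).left, ⊤)) =
      ((EtCoh.bc (X.fromSpecStalk x.1)).map r).left.appTop (compU x σ : Γ((fib V x).left, ⊤)) := by
  unfold compU
  rw [NatTrans.naturality_apply (biproduct.π (comp X) x).hom]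
  rfl

theorem compU_toMax (x : MaxPts X) (s : EtCoh.sect (EtCoh.Gm X) V) :
    (compU x ((toMax X).hom.app (op V) s) : Γ((fib V x).left, ⊤)) =
      (fstM V x).appTop (gmFun s : Γ(V.left, ⊤)) := by
  unfold compU
  have h : toMax X ≫ biproduct.π (comp X) x = EtLim.GmPush (X.fromSpecStalk x.1) := biproduct.lift_π _ _
  rw [show (biproduct.π (comp X) x).hom.app (op V) ((toMax X).hom.app (op V) s) =
    (EtLim.GmPush (X.fromSpecStalk x.1)).hom.app (op V) s from congrArg (fun m => m.hom.app (op V) s) h]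
  exact gmFun_gmPush _ V s

section Eval

variable {L : Type u} [CommRing L]

/-- evaluation along a morphism into the part over `x` -/
noncomputable def ev (x : MaxPts X) (b : Spec (CommRingCat.of L) ⟶ (fib V x).left) (σ : EtCoh.sect (PS X) V) : Lˣ :=
  Units.map (b.appTop ≫ (Scheme.ΓSpecIso (CommRingCat.of L)).hom).hom.toMonoidHom (compU x σ)

variable [Nontrivial L]

theorem eq_of_fst {x : MaxPts X} (b : Spec (CommRingCat.of L) ⟶ (fib V x).left) (p : Spec (CommRingCat.of L)) :
    V.hom ((b ≫ fstM V x) p) = x.1 := by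
  have h1 : V.hom (fstM V x (b p)) = X.fromSpecStalk x.1 (pullback.snd V.hom (X.fromSpecStalk x.1) (b p)) := by
    rw [← Scheme.Hom.comp_apply, ← Scheme.Hom.comp_apply]
    exact congrArg (fun f : (fib V x).left ⟶ X => f (b p)) pullback.condition
  have h2 : X.fromSpecStalk x.1 (pullback.snd V.hom (X.fromSpecStalk x.1) (b p)) ∈
      Set.range (X.fromSpecStalk x.1).base := ⟨_, rfl⟩
  rw [range_fromSpecStalk_max] at h2
  exact h1.trans h2

theorem ev_unique [Nonempty (Spec (CommRingCat.of L))] {x x' : MaxPts X}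
    (b : Spec (CommRingCat.of L) ⟶ (fib V x).left) (b' : Spec (CommRingCat.of L) ⟶ (fib V x').left)
    (h : b ≫ fstM V x = b' ≫ fstM V x') (σ : EtCoh.sect (PS X) V) : ev x b σ = ev x' b' σ := by
  obtain ⟨p⟩ := ‹Nonempty (Spec (CommRingCat.of L))›
  obtain rfl : x = x' := Subtype.ext (by rw [← eq_of_fst b p, ← eq_of_fst b' p, h])
  haveI : Mono (X.fromSpecStalk x.1) := inferInstance
  haveI : Mono (fstM V x) := inferInstanceAs (Mono (pullback.fst V.hom (X.fromSpecStalk x.1)))
  obtain rfl := (cancel_mono (fstM V x)).1 h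
  rfl

end Eval

section Field

variable {L : Type u} [Field L]

/-- a field point over a maximal point lifts to the part over it -/
theorem exists_fib (a : Spec (CommRingCat.of L) ⟶ V.left) (ha : IsMaxPt (a (IsLocalRing.closedPoint L))) :
    ∃ (x : MaxPts X) (b : Spec (CommRingCat.of L) ⟶ (fib V x).left), b ≫ fstM V x = a := by
  let c : Spec (CommRingCat.of L) ⟶ X := a ≫ V.hom
  have hx : IsMaxPt (c (IsLocalRing.closedPoint L)) := isMaxPt_iff.2 ha
  exact ⟨⟨_, hx⟩, pullback.lift a (Spec.map (Scheme.stalkClosedPointTo c))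
    (Scheme.Spec_stalkClosedPointTo_fromSpecStalk c).symm, pullback.lift_fst _ _ _⟩

/-- evaluation at a field point over a maximal point -/
noncomputable def evA (a : Spec (CommRingCat.of L) ⟶ V.left) (ha : IsMaxPt (a (IsLocalRing.closedPoint L)))
    (σ : EtCoh.sect (PS X) V) : Lˣ :=
  ev (exists_fib a ha).choose (exists_fib a ha).choose_spec.choose σ

theorem evA_eq (a : Spec (CommRingCat.of L) ⟶ V.left) (ha : IsMaxPt (a (IsLocalRing.closedPoint L)))
    (x : MaxPts X) (b : Spec (CommRingCat.of L) ⟶ (fib V x).left) (hb : b ≫ fstM V x = a)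
    (σ : EtCoh.sect (PS X) V) : evA a ha σ = ev x b σ :=
  ev_unique _ _ ((exists_fib a ha).choose_spec.choose_spec.trans hb.symm) σ

theorem evA_add (a : Spec (CommRingCat.of L) ⟶ V.left) (ha : IsMaxPt (a (IsLocalRing.closedPoint L)))
    (σ τ : EtCoh.sect (PS X) V) : evA a ha (σ + τ) = evA a ha σ * evA a ha τ := by
  unfold evA ev
  rw [compU_add, map_mul]

theorem evA_map (r : W ⟶ V) (a : Spec (CommRingCat.of L) ⟶ W.left) (ha : IsMaxPt (a (IsLocalRing.closedPoint L)))
    (ha' : IsMaxPt ((a ≫ r.left) (IsLocalRing.closedPoint L))) (σ : EtCoh.sect (PS X) V) :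
    evA a ha ((PS X).obj.map r.op σ) = evA (a ≫ r.left) ha' σ := by
  obtain ⟨x, b, hb⟩ := exists_fib a ha
  rw [evA_eq a ha x b hb, evA_eq (a ≫ r.left) ha' x (b ≫ ((EtCoh.bc (X.fromSpecStalk x.1)).map r).left) (by
    rw [Category.assoc]
    refine (congrArg (b ≫ ·) (EtCoh.isPullback_bc_map (X.fromSpecStalk x.1) r).w).trans ?_
    rw [← Category.assoc]
    exact congrArg (· ≫ r.left) hb)]
  refine Units.ext ?_
  show (b.appTop ≫ _).hom _ = ((b ≫ _).appTop ≫ _).hom _
  rw [compU_map, Scheme.Hom.comp_appTop, Category.assoc]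
  rfl

theorem evA_field {L' : Type u} [Field L'] (ψ : L →+* L') (a : Spec (CommRingCat.of L) ⟶ V.left)
    (ha : IsMaxPt (a (IsLocalRing.closedPoint L)))
    (ha' : IsMaxPt ((Spec.map (CommRingCat.ofHom ψ) ≫ a) (IsLocalRing.closedPoint L')))
    (σ : EtCoh.sect (PS X) V) :
    (evA (Spec.map (CommRingCat.ofHom ψ) ≫ a) ha' σ : L') = ψ (evA a ha σ : L) := by
  obtain ⟨x, b, hb⟩ := exists_fib a ha
  rw [evA_eq a ha x b hb, evA_eq _ ha' x (Spec.map (CommRingCat.ofHom ψ) ≫ b) (by rw [Category.assoc, hb])]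
  have e : (Spec.map (CommRingCat.ofHom ψ) ≫ b).appTop ≫ (Scheme.ΓSpecIso (CommRingCat.of L')).hom =
      (b.appTop ≫ (Scheme.ΓSpecIso (CommRingCat.of L)).hom) ≫ CommRingCat.ofHom ψ := by
    rw [Scheme.Hom.comp_appTop, Category.assoc, Scheme.ΓSpecIso_naturality, Category.assoc]
  exact congrArg (fun m => m.hom (compU x σ : Γ((fib V x).left, ⊤))) e

theorem evA_congr {a a' : Spec (CommRingCat.of L) ⟶ V.left} (h : a = a')
    (ha : IsMaxPt (a (IsLocalRing.closedPoint L))) (ha' : IsMaxPt (a' (IsLocalRing.closedPoint L)))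
    (σ : EtCoh.sect (PS X) V) : evA a ha σ = evA a' ha' σ := by subst h; rfl

theorem evA_toMax (a : Spec (CommRingCat.of L) ⟶ V.left) (ha : IsMaxPt (a (IsLocalRing.closedPoint L)))
    (s : EtCoh.sect (EtCoh.Gm X) V) :
    (evA a ha ((toMax X).hom.app (op V) s) : L) =
      (Scheme.ΓSpecIso (CommRingCat.of L)).hom (a.appTop (gmFun s : Γ(V.left, ⊤))) := by
  obtain ⟨x, b, hb⟩ := exists_fib a ha
  rw [evA_eq a ha x b hb, ← hb]
  show (b.appTop ≫ _).hom _ = _
  rw [compU_toMax, Scheme.Hom.comp_appTop]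
  rfl

end Field

section Rho

variable [FactEt X] (V) (v : V.left)

/-- the field of fractions of the local ring -/
abbrev K : Type u := FractionRing (V.left.presheaf.stalk v)

/-- the generic field point of the local ring -/
noncomputable def genMap : Spec (CommRingCat.of (K V v)) ⟶ V.left :=
  Spec.map (CommRingCat.ofHom (algebraMap (V.left.presheaf.stalk v) (K V v))) ≫ V.left.fromSpecStalk v

theorem genMap_closedPoint : genMap V v (IsLocalRing.closedPoint (K V v)) = gpt V v := by
  refine congrArg (V.left.fromSpecStalk v) (PrimeSpectrum.ext ?_)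
  show Ideal.comap (algebraMap (V.left.presheaf.stalk v) (K V v)) (IsLocalRing.maximalIdeal (K V v)) = ⊥
  rw [IsLocalRing.maximalIdeal_eq_bot]
  exact (RingHom.injective_iff_ker_eq_bot _).1 (IsFractionRing.injective _ _)

theorem isMaxPt_genMap : IsMaxPt (genMap V v (IsLocalRing.closedPoint (K V v))) := by
  rw [genMap_closedPoint]
  exact isMaxPt_gpt V v

/-- the rational function given by a section at a point -/
noncomputable def rho (σ : EtCoh.sect (PS X) V) : (K V v)ˣ := evA (genMap V v) (isMaxPt_genMap V v) σ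

theorem rho_add (σ τ : EtCoh.sect (PS X) V) : rho V v (σ + τ) = rho V v σ * rho V v τ := evA_add _ _ _ _

theorem rho_zero : rho V v 0 = 1 := by
  have h := rho_add V v 0 0
  rw [add_zero] at h
  exact mul_eq_left.1 h.symm

theorem rho_sub (σ τ : EtCoh.sect (PS X) V) : rho V v (σ - τ) = rho V v σ / rho V v τ := by
  rw [eq_div_iff_mul_eq', ← rho_add, sub_add_cancel]

theorem rho_toMax (s : EtCoh.sect (EtCoh.Gm X) V) :
    (rho V v ((toMax X).hom.app (op V) s) : K V v) =
      algebraMap _ _ (V.left.presheaf.germ ⊤ v trivial (gmFun s : Γ(V.left, ⊤))) := by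
  refine (evA_toMax _ _ s).trans ?_
  show (Scheme.ΓSpecIso (CommRingCat.of (K V v))).hom
    ((Spec.map (CommRingCat.ofHom (algebraMap (V.left.presheaf.stalk v) (K V v))) ≫ V.left.fromSpecStalk v).appTop _) = _
  rw [Scheme.Hom.comp_appTop, Scheme.fromSpecStalk_appTop]
  exact congrArg (fun m => m.hom (gmFun s : Γ(V.left, ⊤)))
    (show ((V.left.presheaf.germ ⊤ v trivial ≫ (Scheme.ΓSpecIso (V.left.presheaf.stalk v)).inv) ≫
      (Spec.map (CommRingCat.ofHom (algebraMap (V.left.presheaf.stalk v) (K V v)))).appTop) ≫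
        (Scheme.ΓSpecIso (CommRingCat.of (K V v))).hom =
      V.left.presheaf.germ ⊤ v trivial ≫ CommRingCat.ofHom (algebraMap (V.left.presheaf.stalk v) (K V v)) by
      rw [Category.assoc, Category.assoc, Scheme.ΓSpecIso_naturality]
      exact congrArg (V.left.presheaf.germ ⊤ v trivial ≫ ·) (Iso.inv_hom_id_assoc _ _))

variable {V}

/-- the map of fields of fractions -/
noncomputable def psi (r : W ⟶ V) {w : W.left} {v : V.left} (h : r.left w ⤳ v) : K V v →+* K W w :=
  IsFractionRing.lift (g := (algebraMap (W.left.presheaf.stalk w) (K W w)).comp (phi r h))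
    ((IsFractionRing.injective _ _).comp (phi_injective r h))

theorem psi_algebraMap (r : W ⟶ V) {w : W.left} {v : V.left} (h : r.left w ⤳ v) (a : V.left.presheaf.stalk v) :
    psi r h (algebraMap _ _ a) = algebraMap _ _ (phi r h a) :=
  IsFractionRing.lift_algebraMap _ a

theorem rho_map (r : W ⟶ V) {w : W.left} {v : V.left} (h : r.left w ⤳ v) (σ : EtCoh.sect (PS X) V) :
    (rho W w ((PS X).obj.map r.op σ) : K W w) = psi r h (rho V v σ : K V v) := by
  have e : genMap W w ≫ r.left = Spec.map (CommRingCat.ofHom (psi r h)) ≫ genMap V v := by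
    unfold genMap
    rw [Category.assoc, ← specMap_phi r h, ← Category.assoc, ← Category.assoc, ← Spec.map_comp, ← Spec.map_comp]
    congr 1
    refine congrArg Spec.map (CommRingCat.hom_ext (RingHom.ext fun a => ?_))
    exact (psi_algebraMap r h a).symm
  have h2 : IsMaxPt ((genMap W w ≫ r.left) (IsLocalRing.closedPoint (K W w))) := by
    rw [Scheme.Hom.comp_apply]
    exact isMaxPt_map r (isMaxPt_genMap W w)
  unfold rho
  rw [evA_map r (genMap W w) (isMaxPt_genMap W w) h2, evA_congr e h2 (e ▸ h2)]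
  exact evA_field (psi r h) (genMap V v) (isMaxPt_genMap V v) _ σ

end Rho

end Groth.Agent.BrauerXFact
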