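import Groth.Agent.BrauerXFact.Rat

/-!
# Neighbourhoods with one maximal point: sections and rational functions
-/

universe u

open CategoryTheory CategoryTheory.Limits AlgebraicGeometry Opposite TopologicalSpace

namespace Groth.Agent.BrauerXFact

open Groth.Agent.EtFound Groth.Agent.BrauerXCurve

set_option backward.isDefEq.respectTransparency.types false

variable {X : Scheme.{u}} [AlgebraicGeometry.IsNoetherian X] [FactEt X]

/-- at most one maximal point -/
def UniqMax (V : X.Etale) : Prop := ∀ p q : V.left, IsMaxPt p → IsMaxPt q → p = q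

theorem isLocallyNoetherian_left (V : X.Etale) : IsLocallyNoetherian V.left :=
  haveI : AlgebraicGeometry.Etale V.hom := V.prop
  @LocallyOfFiniteType.isLocallyNoetherian V.left X V.hom inferInstance inferInstance

theorem isMaxPt_restrict {V : X.Etale} {O : V.left.Opens} {p : (restrictEtale V O).left} :
    IsMaxPt p ↔ IsMaxPt ((restrictEtaleHom V O).left p) := by
  refine ⟨isMaxPt_map _, fun h q hq => ?_⟩
  exact Subtype.ext (h _ (hq.map O.ι.continuous))

/-- every point has an affine neighbourhood with one maximal point -/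
theorem exists_uniqMax_nhd (V : X.Etale) (v : V.left) :
    ∃ O : V.left.Opens, v ∈ O ∧ CompactSpace O.toScheme ∧ UniqMax (restrictEtale V O) := by
  obtain ⟨U, hU, hvU, -⟩ := exists_isAffineOpen_mem_and_subset (Set.mem_univ v) (U := (⊤ : V.left.Opens))
  haveI := isLocallyNoetherian_left V
  haveI : IsAffine U.toScheme := hU
  haveI : AlgebraicGeometry.IsNoetherian U.toScheme := {}
  let v' : U.toScheme := ⟨v, hvU⟩
  let C : Set U.toScheme := ⋃ Z ∈ {Z ∈ irreducibleComponents U.toScheme | v' ∉ Z}, Z
  have hC : IsClosed C := Set.Finite.isClosed_biUnion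
    (NoetherianSpace.finite_irreducibleComponents.subset fun Z hZ => hZ.1)
    fun Z hZ => isClosed_of_mem_irreducibleComponents Z hZ.1
  let O : V.left.Opens := U.ι ''ᵁ ⟨Cᶜ, hC.isOpen_compl⟩
  have hv : v' ∉ C := fun h => by
    obtain ⟨Z, hZ, hvZ⟩ := Set.mem_iUnion₂.1 h
    exact hZ.2 hvZ
  have hO : CompactSpace O.toScheme :=
    isCompact_iff_compactSpace.1 ((NoetherianSpace.isCompact (α := U.toScheme) Cᶜ).image U.ι.continuous)
  refine ⟨O, ⟨v', hv, rfl⟩, hO, fun p q hp hq => ?_⟩
  suffices key : ∀ p : (restrictEtale V O).left, IsMaxPt p → (restrictEtaleHom V O).left p = gpt V v from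
    Subtype.ext ((key p hp).trans (key q hq).symm)
  rintro ⟨_, a, ha, rfl⟩ hp'
  have hpV : IsMaxPt (U.ι a) := (isMaxPt_restrict (V := V) (O := O) (p := ⟨U.ι a, a, ha, rfl⟩)).1 hp'
  refine eq_gpt V v ?_ hpV
  obtain ⟨c, hc⟩ : ∃ c, IsGenericPoint c (irreducibleComponent a) :=
    QuasiSober.sober isIrreducible_irreducibleComponent isClosed_irreducibleComponent
  have hca : c = a := Subtype.ext (hpV _ ((hc.specializes mem_irreducibleComponent).map U.ι.continuous))
  have hvZ : v' ∈ irreducibleComponent a := by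
    by_contra h
    exact ha (Set.mem_iUnion₂.2 ⟨_, ⟨irreducibleComponent_mem_irreducibleComponents a, h⟩, mem_irreducibleComponent⟩)
  exact (hca ▸ hc.specializes hvZ).map U.ι.continuous

variable {V : X.Etale}

theorem fib_eq_gpt (hV : UniqMax V) (v : V.left) (x : MaxPts X) (q : (fib V x).left) : fstM V x q = gpt V v := by
  refine hV _ _ (isMaxPt_iff.1 ?_) (isMaxPt_gpt V v)
  have h1 : V.hom (fstM V x q) = X.fromSpecStalk x.1 (pullback.snd V.hom (X.fromSpecStalk x.1) q) := by
    rw [← Scheme.Hom.comp_apply, ← Scheme.Hom.comp_apply]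
    exact congrArg (fun f : (fib V x).left ⟶ X => f q) pullback.condition
  have h2 : X.fromSpecStalk x.1 (pullback.snd V.hom (X.fromSpecStalk x.1) q) ∈
      Set.range (X.fromSpecStalk x.1).base := ⟨_, rfl⟩
  rw [range_fromSpecStalk_max] at h2
  rw [h1.trans h2]
  exact x.2

theorem isField_stalk_of_isMaxPt {p : V.left} (hp : IsMaxPt p) : IsField (V.left.presheaf.stalk p) := by
  haveI : IsReduced V.left := @isReduced_of_isReduced_stalk _ fun z => inferInstance
  exact isField_stalk p hp

/-- functions on a part over a maximal point are zero or units -/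
theorem isUnit_of_ne_zero (hV : UniqMax V) (x : MaxPts X) (t : Γ((fib V x).left, ⊤)) (ht : t ≠ 0) : IsUnit t := by
  refine (fib V x).left.toRingedSpace.isUnit_of_isUnit_germ _ t fun q _ => ?_
  have hpre : IsPreimmersion (X.fromSpecStalk x.1) := inferInstance
  have hfst : IsPreimmersion (fstM V x) :=
    MorphismProperty.pullback_fst (P := @IsPreimmersion) V.hom (X.fromSpecStalk x.1) hpre
  have hF : IsField (V.left.presheaf.stalk (fstM V x q)) := isField_stalk_of_isMaxPt (by
    rw [fib_eq_gpt hV (fstM V x q) x q]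
    exact isMaxPt_gpt _ _)
  obtain ⟨c, hc⟩ := (fstM V x).stalkMap_surjective q ((fib V x).left.presheaf.germ ⊤ q trivial t)
  rcases eq_or_ne c 0 with rfl | hc0
  · refine absurd (TopCat.Presheaf.section_ext (fib V x).left.sheaf ⊤ t 0 fun q' hq' => ?_) ht
    haveI : Mono (X.fromSpecStalk x.1) := inferInstance
    obtain rfl : q' = q := (fstM V x).isEmbedding.injective ((fib_eq_gpt hV (fstM V x q) x q').trans
      (fib_eq_gpt hV (fstM V x q) x q).symm)
    show (fib V x).left.presheaf.germ ⊤ q' trivial t = (fib V x).left.presheaf.germ ⊤ q' trivial 0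
    rw [← hc, map_zero, map_zero]
  · obtain ⟨d, hd⟩ := hF.mul_inv_cancel hc0
    have h : IsUnit c := .of_mul_eq_one d hd
    show IsUnit ((fib V x).left.presheaf.germ ⊤ q trivial t)
    rw [← hc]
    exact h.map _

theorem compU_ext {σ τ : EtCoh.sect (PS X) V} (h : ∀ x, compU x σ = compU x τ) : σ = τ := by
  classical
  haveI := Fintype.ofFinite (MaxPts X)
  let Φ : (PS X ⟶ PS X) →+ EtCoh.sect (PS X) V :=
    { toFun := fun m => m.hom.app (op V) σ - m.hom.app (op V) τ
      map_zero' := sub_self _
      map_add' := fun a b => by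
        show (a.hom.app (op V) σ + b.hom.app (op V) σ) - (a.hom.app (op V) τ + b.hom.app (op V) τ) = _
        abel }
  have h1 := congrArg Φ (biprod_total (comp X))
  rw [map_sum, Finset.sum_eq_zero fun x _ => ?_] at h1
  · exact (sub_eq_zero.1 h1.symm)
  · have hx : (biproduct.π (comp X) x).hom.app (op V) σ = (biproduct.π (comp X) x).hom.app (op V) τ :=
      gmFun_ext (X := Spec (X.presheaf.stalk x.1)) (V := fib V x) (congrArg Units.val (h x))
    show (biproduct.ι (comp X) x).hom.app (op V) ((biproduct.π (comp X) x).hom.app (op V) σ) -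
      (biproduct.ι (comp X) x).hom.app (op V) ((biproduct.π (comp X) x).hom.app (op V) τ) = 0
    rw [hx, sub_self]

/-- a section with trivial rational function is trivial -/
theorem eq_zero_of_rho (hV : UniqMax V) (v : V.left) (σ : EtCoh.sect (PS X) V) (h : rho V v σ = 1) : σ = 0 := by
  refine compU_ext fun x => ?_
  have h0 : compU x (0 : EtCoh.sect (PS X) V) = 1 := by
    have e := compU_add x (0 : EtCoh.sect (PS X) V) 0
    rw [add_zero] at e
    exact mul_eq_left.1 e.symm
  rw [h0]
  rcases isEmpty_or_nonempty (fib V x).left with he | ⟨⟨q⟩⟩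
  · exact Units.ext (TopCat.Presheaf.section_ext (fib V x).left.sheaf ⊤ _ _ fun q _ => isEmptyElim (α := (fib V x).left) q)
  obtain ⟨x', b, hb⟩ := exists_fib (genMap V v) (isMaxPt_genMap V v)
  obtain rfl : x = x' := Subtype.ext (by
    have h1 := eq_of_fst b (IsLocalRing.closedPoint (K V v))
    rw [hb, genMap_closedPoint, ← fib_eq_gpt hV v x q] at h1
    have h2 : V.hom (fstM V x q) = x.1 := by
      have h3 : V.hom (fstM V x q) = X.fromSpecStalk x.1 (pullback.snd V.hom (X.fromSpecStalk x.1) q) := by
        rw [← Scheme.Hom.comp_apply, ← Scheme.Hom.comp_apply]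
        exact congrArg (fun f : (fib V x).left ⟶ X => f q) pullback.condition
      have h4 : X.fromSpecStalk x.1 (pullback.snd V.hom (X.fromSpecStalk x.1) q) ∈
          Set.range (X.fromSpecStalk x.1).base := ⟨_, rfl⟩
      rw [range_fromSpecStalk_max] at h4
      exact h3.trans h4
    exact h2.symm.trans h1)
  refine Units.ext (sub_eq_zero.1 (by_contra fun hne => ?_))
  have hu := isUnit_of_ne_zero hV x _ hne
  have h2 := (hu.map (b.appTop ≫ (Scheme.ΓSpecIso (CommRingCat.of (K V v))).hom).hom).ne_zero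
  refine h2 ?_
  rw [map_sub, Units.val_one, map_one, sub_eq_zero]
  have h3 := (evA_eq (genMap V v) (isMaxPt_genMap V v) x b hb σ).symm.trans h
  exact congrArg Units.val h3

theorem isUnit_fst (hV : UniqMax V) (v : V.left) (f : Γ(V.left, ⊤)) (hf : V.left.presheaf.germ ⊤ v trivial f ≠ 0)
    (x : MaxPts X) : IsUnit ((fstM V x).appTop f) := by
  rcases isEmpty_or_nonempty (fib V x).left with he | ⟨⟨q⟩⟩
  · exact (fib V x).left.toRingedSpace.isUnit_of_isUnit_germ _ _ fun q _ => isEmptyElim (α := (fib V x).left) q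
  refine isUnit_of_ne_zero hV x _ fun h0 => hf ?_
  have hg : fstM V x q = gpt V v := fib_eq_gpt hV v x q
  have h1 : (fib V x).left.presheaf.germ ⊤ q trivial ((fstM V x).appTop f) =
      (fstM V x).stalkMap q (V.left.presheaf.germ ⊤ (fstM V x q) trivial f) :=
    (Scheme.Hom.germ_stalkMap_apply (fstM V x) ⊤ q trivial f).symm
  rw [h0, map_zero] at h1
  have hF : IsField (V.left.presheaf.stalk (fstM V x q)) := isField_stalk_of_isMaxPt (by
    rw [hg]
    exact isMaxPt_gpt _ _)
  have h2 : V.left.presheaf.germ ⊤ (fstM V x q) trivial f = 0 := by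
    by_contra hne
    obtain ⟨d, hd⟩ := hF.mul_inv_cancel hne
    exact ((IsUnit.of_mul_eq_one d hd).map ((fstM V x).stalkMap q).hom).ne_zero h1.symm
  have hs : (𝟙 V : V ⟶ V).left (fstM V x q) ⤳ v := by
    show (fstM V x q) ⤳ v
    rw [hg]
    exact gpt_specializes V v
  refine phi_injective (𝟙 V) hs ?_
  rw [map_zero, phi_germ (𝟙 V) hs (U := ⊤) trivial f]
  exact h2

/-- the section given by a function which is nonzero at the generic point -/
theorem exists_sect (hV : UniqMax V) (v : V.left) (f : Γ(V.left, ⊤))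
    (hf : V.left.presheaf.germ ⊤ v trivial f ≠ 0) :
    ∃ σ : EtCoh.sect (PS X) V, ∀ z : V.left,
      (rho V z σ : K V z) = algebraMap _ _ (V.left.presheaf.germ ⊤ z trivial f) := by
  classical
  haveI := Fintype.ofFinite (MaxPts X)
  let τ : ∀ x : MaxPts X, EtCoh.sect (comp X x) V := fun x =>
    gmSect (X := Spec (X.presheaf.stalk x.1)) (V := fib V x) (isUnit_fst hV v f hf x).unit
  let σ : EtCoh.sect (PS X) V := ∑ x, (biproduct.ι (comp X) x).hom.app (op V) (τ x)
  have hc : ∀ x, (compU x σ : Γ((fib V x).left, ⊤)) = (fstM V x).appTop f := fun x => by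
    unfold compU
    have : (biproduct.π (comp X) x).hom.app (op V) σ = τ x := by
      rw [map_sum, Finset.sum_eq_single x]
      · exact congrArg (fun m => m.hom.app (op V) (τ x)) (biproduct.ι_π_self (comp X) x)
      · intro y _ hy
        exact congrArg (fun m => m.hom.app (op V) (τ y)) (biproduct.ι_π_ne (comp X) hy)
      · simp
    rw [this]
    rfl
  refine ⟨σ, fun z => ?_⟩
  obtain ⟨x, b, hb⟩ := exists_fib (genMap V z) (isMaxPt_genMap V z)
  unfold rho
  rw [evA_eq _ _ x b hb]
  show (b.appTop ≫ (Scheme.ΓSpecIso (CommRingCat.of (K V z))).hom).hom (compU x σ : Γ((fib V x).left, ⊤)) = _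
  rw [hc]
  have e : (fstM V x).appTop ≫ b.appTop ≫ (Scheme.ΓSpecIso (CommRingCat.of (K V z))).hom =
      V.left.presheaf.germ ⊤ z trivial ≫ CommRingCat.ofHom (algebraMap (V.left.presheaf.stalk z) (K V z)) := by
    rw [← Category.assoc, ← Scheme.Hom.comp_appTop, hb, genMap, Scheme.Hom.comp_appTop, Scheme.fromSpecStalk_appTop,
      Category.assoc, Category.assoc, Scheme.ΓSpecIso_naturality]
    rw [show (Spec (V.left.presheaf.stalk z)).presheaf.map (homOfLE le_top).op = 𝟙 _ from
      (Spec (V.left.presheaf.stalk z)).presheaf.map_id _, Category.comp_id]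
    exact congrArg (V.left.presheaf.germ ⊤ z trivial ≫ ·) (Iso.inv_hom_id_assoc _ _)
  exact congrArg (fun m => m.hom f) e

end Groth.Agent.BrauerXFact
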